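import Cfsg.Agent.Helper39.Ord983.Inter
import Cfsg.Agent.Helper17.CountOrder

/-!
# A third kit for "no simple group of order n" arguments (helper39, for S0983)

* `centList`, `survList`, `sylow_prime_surv`: for a Sylow subgroup of prime order `p`, the pair
  `(n_p, |C(P)|)` lies in an explicit computable list.
* `dvd_card_centralizer_swap`: `q ∣ |C(P)| → p ∣ |C(Q)|` for Sylows of prime order.
* `sum_card_orderOf_le`: counting elements by order.
* `index_mem_interList`: the possible indices from the Sylow-intersection argument.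
* `exists_orderOf_of_relIndex`, `no_elt_two_pow`.
-/

set_option autoImplicit false

namespace Cfsg.Agent.Helper39.Ord983

open Subgroup Cfsg.Agent.Helper9 Cfsg.Agent.Helper17 Cfsg.Agent.Helper39.SimpOrd

variable {G : Type*} [Group G] [Finite G]

/-- Possible orders of `C(P)` for `|P| = p` prime and `|N(P)| = N`. -/
def centList (p N : ℕ) : List ℕ :=
  (List.range p).filterMap fun e =>
    if 1 < e ∧ e ∣ p - 1 ∧ p * e ∣ N then some (N / e) else none

/-- The small primes used for the fixed-point congruence filter. -/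
def smallPrimes : List ℕ := [2, 3, 5, 7, 11, 13, 17, 19, 23, 29, 31]

theorem prime_of_mem_smallPrimes {q : ℕ} (h : q ∈ smallPrimes) : q.Prime := by
  unfold smallPrimes at h
  simp only [List.mem_cons, List.not_mem_nil, or_false] at h
  rcases h with rfl | rfl | rfl | rfl | rfl | rfl | rfl | rfl | rfl | rfl | rfl <;> norm_num

/-- The surviving pairs `(n_p, |C(P)|)`. -/
def survList (p m : ℕ) : List (ℕ × ℕ) :=
  (npList p 1 m).flatMap fun np =>
    ((centList p (p * m / np)).filter fun c =>
      smallPrimes.all fun q => (q == p) || (c % q != 0) || !centDead p q np).map fun c => (np, c)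

theorem card_centralizer_mem_centList [IsSimpleGroup G] {p : ℕ} [hp : Fact p.Prime]
    (P : Sylow p G) (hP : Nat.card (P : Subgroup G) = p) (hG : Nat.card G ≠ p) :
    Nat.card (centralizer ((P : Subgroup G) : Set G)) ∈
      centList p (Nat.card (normalizer ((P : Subgroup G) : Set G))) := by
  obtain ⟨h1, h2⟩ := relIndex_dvd_of_card_sylow_prime P hP
  have h3 := card_centralizer_mul_relIndex (P : Subgroup G)
  set e := (centralizer ((P : Subgroup G) : Set G)).relIndex
    (normalizer ((P : Subgroup G) : Set G)) with he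
  have hp2 := hp.out.two_le
  have he0 : e ≠ 0 := by
    intro h0
    rw [h0, Nat.mul_zero] at h3
    have : 0 < Nat.card (normalizer ((P : Subgroup G) : Set G)) := Nat.card_pos
    omega
  have he1 : e ≠ 1 := by
    intro h
    apply not_normalizer_le_centralizer_of_simple P
    · rw [hP]; omega
    · rw [hP]; exact fun h => hG h.symm
    · exact Subgroup.relIndex_eq_one.mp h
  have hep : e < p := by
    have := Nat.le_of_dvd (by omega) h1
    omega
  unfold centList
  rw [List.mem_filterMap]
  refine ⟨e, List.mem_range.mpr hep, ?_⟩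
  rw [if_pos ⟨by omega, h1, h2⟩]
  congr 1
  rw [← h3]
  exact Nat.mul_div_cancel _ (by omega)

/-- **Main enumeration lemma** for a Sylow subgroup of prime order. -/
theorem sylow_prime_surv [IsSimpleGroup G] (hG : ¬ IsMulCommutative G) (p m : ℕ) (hp : p.Prime)
    (hcard : Nat.card G = p ^ 1 * m) (hm : ¬ p ∣ m) (hm1 : m ≠ 1) :
    haveI : Fact p.Prime := ⟨hp⟩
    ∀ P : Sylow p G, (Nat.card (Sylow p G), Nat.card (centralizer ((P : Subgroup G) : Set G)))
      ∈ survList p m := by
  haveI : Fact p.Prime := ⟨hp⟩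
  intro P
  have hm0 : m ≠ 0 := fun h => hm (h ▸ dvd_zero p)
  have hp2 := hp.two_le
  have hmem := card_sylow_mem_npList hG p 1 m hp hcard hm one_ne_zero hm1
  have hP : Nat.card (P : Subgroup G) = p := by
    simpa using card_sylow_subgroup_of_card_eq hcard hm P
  have hGp : Nat.card G ≠ p := by
    rw [hcard, pow_one]
    intro h
    have : p * m = p * 1 := by rw [h, mul_one]
    exact hm1 (Nat.eq_of_mul_eq_mul_left hp.pos this)
  have hG2 : 2 < Nat.card G := by
    rw [hcard, pow_one]
    have : 2 ≤ m := by omega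
    nlinarith
  have hnp0 : Nat.card (Sylow p G) ≠ 0 := Nat.card_pos.ne'
  have hnp1 : Nat.card (Sylow p G) ≠ 1 :=
    card_sylow_ne_one_of_simple hcard hm one_ne_zero hm1
  have hN : Nat.card (normalizer ((P : Subgroup G) : Set G)) = p * m / Nat.card (Sylow p G) := by
    have := card_normalizer_mul_card_sylow P
    rw [hcard, pow_one] at this
    rw [← this]
    exact (Nat.mul_div_cancel _ (Nat.pos_of_ne_zero hnp0)).symm
  have hC := card_centralizer_mem_centList P hP hGp
  rw [hN] at hC
  unfold survList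
  rw [List.mem_flatMap]
  refine ⟨_, hmem, ?_⟩
  rw [List.mem_map]
  refine ⟨_, ?_, rfl⟩
  rw [List.mem_filter]
  refine ⟨hC, ?_⟩
  rw [List.all_eq_true]
  intro q hq
  by_cases hqp : q = p
  · simp [hqp]
  by_cases hqc : Nat.card (centralizer ((P : Subgroup G) : Set G)) % q = 0
  · have hqprime := prime_of_mem_smallPrimes hq
    haveI : Fact q.Prime := ⟨hqprime⟩
    have hdvd : q ∣ Nat.card (centralizer ((P : Subgroup G) : Set G)) :=
      Nat.dvd_of_mod_eq_zero hqc
    by_cases hdead : centDead p q (Nat.card (Sylow p G)) = true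
    · exact absurd hdvd (not_dvd_card_centralizer hG2 P _ rfl hnp1 hdead)
    · simp [hdead]
  · simp only [Bool.or_eq_true, beq_iff_eq, bne_iff_ne, ne_eq, Bool.not_eq_true']
    exact Or.inl (Or.inr hqc)

/-- Divisibility of `|C(P)|` by a prime `q` in terms of commuting elements. -/
theorem dvd_card_centralizer_iff {p : ℕ} [hp : Fact p.Prime]
    (hP : ∀ P : Sylow p G, Nat.card (P : Subgroup G) = p) (P : Sylow p G) (q : ℕ)
    [hq : Fact q.Prime] :
    q ∣ Nat.card (centralizer ((P : Subgroup G) : Set G)) ↔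
      ∃ x y : G, orderOf x = p ∧ orderOf y = q ∧ Commute x y := by
  constructor
  · intro hdvd
    obtain ⟨c', hc'⟩ := exists_prime_orderOf_dvd_card'
      (G := ↥(centralizer ((P : Subgroup G) : Set G))) q hdvd
    have hcq : orderOf (c' : G) = q := by rw [Subgroup.orderOf_coe, hc']
    obtain ⟨x', hx'⟩ := exists_prime_orderOf_dvd_card' (G := ↥(P : Subgroup G)) p
      (by rw [hP P])
    have hxp : orderOf (x' : G) = p := by rw [Subgroup.orderOf_coe, hx']
    refine ⟨x', c', hxp, hcq, ?_⟩
    exact (c'.2 x' x'.2)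
  · rintro ⟨x, y, hx, hy, hxy⟩
    obtain ⟨Q, hQ⟩ := exists_sylow_eq_zpowers hP x hx
    have hyQ : y ∈ centralizer ((Q : Subgroup G) : Set G) := by
      rw [hQ]
      intro z hz
      obtain ⟨k, rfl⟩ := Subgroup.mem_zpowers_iff.mp hz
      exact ((hxy.zpow_left k).eq)
    have h1 : q ∣ Nat.card (centralizer ((Q : Subgroup G) : Set G)) := by
      rw [← hy]
      have := orderOf_dvd_natCard (⟨y, hyQ⟩ : centralizer ((Q : Subgroup G) : Set G))
      rwa [← Subgroup.orderOf_coe] at this
    obtain ⟨g, hg⟩ := MulAction.exists_smul_eq G Q P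
    have hcard : Nat.card (centralizer ((P : Subgroup G) : Set G)) =
        Nat.card (centralizer ((Q : Subgroup G) : Set G)) := by
      have hPQ : (P : Subgroup G) = (Q : Subgroup G).map (MulAut.conj g).toMonoidHom := by
        rw [← hg]; rfl
      rw [hPQ]
      have : centralizer (((Q : Subgroup G).map (MulAut.conj g).toMonoidHom : Subgroup G) : Set G)
          = (centralizer ((Q : Subgroup G) : Set G)).map (MulAut.conj g).toMonoidHom := by
        ext z
        simp only [Subgroup.mem_centralizer_iff, Subgroup.coe_map, MulEquiv.coe_toMonoidHom,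
          MulAut.conj_apply, Set.mem_image, SetLike.mem_coe, Subgroup.mem_map,
          forall_exists_index, and_imp]
        constructor
        · intro h
          refine ⟨g⁻¹ * z * g, ?_, by group⟩
          intro w hw
          have := h _ w hw rfl
          have e1 : w * (g⁻¹ * z * g) = g⁻¹ * ((g * w * g⁻¹) * z) * g := by group
          have e2 : g⁻¹ * z * g * w = g⁻¹ * (z * (g * w * g⁻¹)) * g := by group
          rw [e1, e2, this]
        · rintro ⟨z', hz', rfl⟩ w' w hw rfl
          have := hz' w hw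
          have e1 : g * w * g⁻¹ * (g * z' * g⁻¹) = g * (w * z') * g⁻¹ := by group
          have e2 : g * z' * g⁻¹ * (g * w * g⁻¹) = g * (z' * w) * g⁻¹ := by group
          rw [e1, e2, this]
      rw [this]
      exact Nat.card_congr
        ((centralizer ((Q : Subgroup G) : Set G)).equivMapOfInjective _
          (MulAut.conj g).injective).symm.toEquiv
    rw [hcard]
    exact h1

/-- **Swap**: `q ∣ |C(P)| → p ∣ |C(Q)|` when Sylow `p`- and `q`-subgroups have prime order. -/
theorem dvd_card_centralizer_swap {p q : ℕ} [hp : Fact p.Prime] [hq : Fact q.Prime]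
    (hP : ∀ P : Sylow p G, Nat.card (P : Subgroup G) = p)
    (hQ : ∀ Q : Sylow q G, Nat.card (Q : Subgroup G) = q) (P : Sylow p G) (Q : Sylow q G)
    (h : q ∣ Nat.card (centralizer ((P : Subgroup G) : Set G))) :
    p ∣ Nat.card (centralizer ((Q : Subgroup G) : Set G)) := by
  obtain ⟨x, y, hx, hy, hxy⟩ := (dvd_card_centralizer_iff hP P q).mp h
  exact (dvd_card_centralizer_iff hQ Q p).mpr ⟨y, x, hy, hx, hxy.symm⟩

/-- Counting elements by their orders. -/
theorem sum_card_orderOf_le (S : Finset ℕ) :
    ∑ d ∈ S, Nat.card {g : G // orderOf g = d} ≤ Nat.card G := by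
  classical
  letI : Fintype G := Fintype.ofFinite G
  have h1 : ∀ d, Nat.card {g : G // orderOf g = d} =
      (Finset.univ.filter (fun g : G => orderOf g = d)).card := by
    intro d
    rw [Nat.card_eq_fintype_card, Fintype.card_subtype]
  simp_rw [h1]
  rw [← Finset.card_biUnion]
  · rw [Nat.card_eq_fintype_card]
    exact Finset.card_le_univ _
  · intro a _ b _ hab
    rw [Function.onFun, Finset.disjoint_left]
    intro g hga hgb
    rw [Finset.mem_filter] at hga hgb
    exact hab (hga.2.symm.trans hgb.2)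

/-- The possible indices of the normalizer of a large Sylow intersection. -/
def interList (p k m : ℕ) : List ℕ :=
  (List.range (m + 1)).filter fun d =>
    decide (d ∣ m) && (d != 1) &&
      ((List.range (m / d + 1)).any fun e =>
        decide (e ∣ m / d) && (e % p == 1) && decide (p + 1 ≤ e)) &&
      decide (2 * (p ^ k * m) ∣ d.factorial)

theorem index_mem_interList [IsSimpleGroup G] (hG : ¬ IsMulCommutative G) (p k m : ℕ)
    (hp : p.Prime) (hcard : Nat.card G = p ^ k * m) (hm : ¬ p ∣ m) (hk : 2 ≤ k)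
    (hnmod : ¬ Nat.card (Sylow p G) ≡ 1 [MOD p ^ 2]) :
    ∃ H : Subgroup G, H ≠ ⊤ ∧ H.index ∈ interList p k m := by
  obtain ⟨D, n, m', hNne, hn1, hnmod', hcardN, hidx⟩ :=
    exists_normalizer_of_sylow_inter' p k m hp hcard hm hk hnmod
  refine ⟨normalizer (D : Set G), hNne, ?_⟩
  have hm0 : m ≠ 0 := fun h => hm (h ▸ dvd_zero p)
  set d := (normalizer (D : Set G)).index with hd
  have hdm : d ∣ m := ⟨n * m', hidx.symm⟩
  have hdle : d ≤ m := Nat.le_of_dvd (Nat.pos_of_ne_zero hm0) hdm
  have hd1 : d ≠ 1 := fun h => hNne (Subgroup.index_eq_one.mp h)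
  have hd0 : d ≠ 0 := Subgroup.index_ne_zero_of_finite
  have hquot : m / d = n * m' := by
    rw [← hidx]; exact Nat.mul_div_cancel_left _ (Nat.pos_of_ne_zero hd0)
  have hfac : 2 * (p ^ k * m) ∣ d.factorial := by
    have := two_mul_card_dvd_factorial_index hG _ hNne
    rwa [hcard] at this
  have hm'0 : m' ≠ 0 := by
    rintro rfl
    rw [Nat.mul_zero, Nat.mul_zero] at hidx
    exact hm0 hidx.symm
  unfold interList
  rw [List.mem_filter]
  refine ⟨List.mem_range.mpr (by omega), ?_⟩
  simp only [Bool.and_eq_true, decide_eq_true_eq, bne_iff_ne, ne_eq, List.any_eq_true,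
    List.mem_range, beq_iff_eq]
  refine ⟨⟨⟨hdm, hd1⟩, n, ?_, ⟨?_, hnmod'⟩, hn1⟩, hfac⟩
  · rw [hquot]
    have : 1 ≤ m' := Nat.one_le_iff_ne_zero.mpr hm'0
    nlinarith
  · rw [hquot]; exact Dvd.intro _ rfl

/-- `N(P)/C(P)` is cyclic for `|P| = p`: some element of `N(P)` has order divisible by
`[N(P) : C(P)]`. -/
theorem exists_orderOf_of_relIndex {p : ℕ} [hp : Fact p.Prime] (P : Sylow p G)
    (hP : Nat.card (P : Subgroup G) = p) :
    ∃ g : G, (centralizer ((P : Subgroup G) : Set G)).relIndex
      (normalizer ((P : Subgroup G) : Set G)) ∣ orderOf g := by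
  haveI : Fact (Nat.card (P : Subgroup G)).Prime := ⟨hP.symm ▸ hp.out⟩
  haveI : IsCyclic (P : Subgroup G) := isCyclic_of_prime_card rfl
  haveI : IsCyclic (MulAut (P : Subgroup G)) :=
    (IsCyclic.mulAutMulEquiv (P : Subgroup G)).isCyclic.mpr inferInstance
  set f := (P : Subgroup G).normalizerMonoidHom with hf
  haveI : IsCyclic f.range := inferInstance
  obtain ⟨φ, hφ⟩ := IsCyclic.exists_generator (α := f.range)
  obtain ⟨g, hg⟩ := φ.2
  have hord : orderOf φ = Nat.card f.range := orderOf_eq_card_of_forall_mem_zpowers hφ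
  have hidx : Nat.card f.range = (centralizer ((P : Subgroup G) : Set G)).relIndex
      (normalizer ((P : Subgroup G) : Set G)) := by
    rw [← Subgroup.index_ker, hf, normalizerMonoidHom_ker, Subgroup.relIndex]
  refine ⟨(g : G), ?_⟩
  rw [← hidx, ← hord, Subgroup.orderOf_coe, ← Subgroup.orderOf_coe φ, ← hg]
  exact orderOf_map_dvd f g

/-- A non-abelian simple group has no element of order divisible by the full power of `2`
(its Sylow `2`-subgroups are not cyclic). -/
theorem no_elt_two_pow [IsSimpleGroup G] (hG : ¬ IsMulCommutative G) (k m : ℕ)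
    (hcard : Nat.card G = 2 ^ k * m) (hm : ¬ 2 ∣ m) (hk : k ≠ 0) (g : G)
    (hg : 2 ^ k ∣ orderOf g) : False := by
  haveI : Fact (Nat.Prime 2) := ⟨Nat.prime_two⟩
  obtain ⟨j, hj⟩ := hg
  have hg0 : orderOf g ≠ 0 := (orderOf_pos g).ne'
  have hj0 : j ≠ 0 := by
    rintro rfl
    rw [Nat.mul_zero] at hj
    exact hg0 hj
  set h := g ^ j with hh
  have hord : orderOf h = 2 ^ k := by
    rw [hh, orderOf_pow' g hj0, hj, Nat.gcd_eq_right (Dvd.intro_left _ rfl)]
    exact Nat.mul_div_cancel _ (Nat.pos_of_ne_zero hj0)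
  have hcardz : Nat.card (zpowers h) = 2 ^ k := by rw [Nat.card_zpowers, hord]
  obtain ⟨Q, hQ⟩ := (IsPGroup.of_card hcardz).exists_le_sylow
  have hQc : Nat.card (Q : Subgroup G) = 2 ^ k := card_sylow_subgroup_of_card_eq hcard hm Q
  have hQe : zpowers h = (Q : Subgroup G) :=
    Subgroup.eq_of_le_of_card_ge hQ (by rw [hQc, hcardz])
  have hmin : (Nat.card G).minFac = 2 := by
    rw [Nat.minFac_eq_two_iff, hcard]
    exact Dvd.dvd.mul_right (dvd_pow_self 2 hk) m
  apply not_isCyclic_sylow_minFac_of_simple hG hmin Q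
  rw [← hQe]
  infer_instance

end Cfsg.Agent.Helper39.Ord983
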