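import Cfsg.Agent.Helper39.SimpOrd.Base
import Cfsg.Agent.Helper39.SimpOrd.Kit

set_option autoImplicit false
set_option maxHeartbeats 4000000
set_option maxRecDepth 100000

namespace Cfsg.Agent.Helper39.Ord983

open Cfsg.Agent.Helper9 Cfsg.Agent.Helper39.SimpOrd

theorem blk00 {G : Type*} [Group G] [Finite G] [IsSimpleGroup G]
    (hG : ¬ IsMulCommutative G) (hlo : 3641 ≤ Nat.card G) (hhi : Nat.card G ≤ 3740)
    (hand : ∀ n : ℕ, n ∈ ([3648, 3696] : List ℕ) → Nat.card G = n → False) :
    Nat.card G = 4080 ∨ Nat.card G = 5616 ∨ Nat.card G = 6048 ∨ Nat.card G = 6072 := by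
  generalize hn : Nat.card G = n at hlo hhi
  interval_cases n
  · exact (sieve_kill hG 331 1 11 (by norm_num) (by rw [hn]; norm_num) (by norm_num) (by norm_num) (by norm_num) (by decide +kernel)).elim
  · exact (sieve_kill hG 607 1 6 (by norm_num) (by rw [hn]; norm_num) (by norm_num) (by norm_num) (by norm_num) (by decide +kernel)).elim
  · exact (not_prime_pow hG 3643 1 (by norm_num) (by rw [hn]; norm_num)).elim
  · exact (sieve_kill hG 911 1 4 (by norm_num) (by rw [hn]; norm_num) (by norm_num) (by norm_num) (by norm_num) (by decide +kernel)).elim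
  · exact (sieve_kill hG 5 1 729 (by norm_num) (by rw [hn]; norm_num) (by norm_num) (by norm_num) (by norm_num) (by decide +kernel)).elim
  · exact (sieve_kill hG 1823 1 2 (by norm_num) (by rw [hn]; norm_num) (by norm_num) (by norm_num) (by norm_num) (by decide +kernel)).elim
  · exact (sieve_kill hG 521 1 7 (by norm_num) (by rw [hn]; norm_num) (by norm_num) (by norm_num) (by norm_num) (by decide +kernel)).elim
  · exact (hand 3648 (by decide) hn).elim
  · exact (sieve_kill hG 89 1 41 (by norm_num) (by rw [hn]; norm_num) (by norm_num) (by norm_num) (by norm_num) (by decide +kernel)).elim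
  · exact (sieve_kill hG 73 1 50 (by norm_num) (by rw [hn]; norm_num) (by norm_num) (by norm_num) (by norm_num) (by decide +kernel)).elim
  · exact (sieve_kill hG 1217 1 3 (by norm_num) (by rw [hn]; norm_num) (by norm_num) (by norm_num) (by norm_num) (by decide +kernel)).elim
  · exact (sieve_kill hG 83 1 44 (by norm_num) (by rw [hn]; norm_num) (by norm_num) (by norm_num) (by norm_num) (by decide +kernel)).elim
  · exact (sieve_kill hG 281 1 13 (by norm_num) (by rw [hn]; norm_num) (by norm_num) (by norm_num) (by norm_num) (by decide +kernel)).elim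
  · exact (sieve_kill hG 29 1 126 (by norm_num) (by rw [hn]; norm_num) (by norm_num) (by norm_num) (by norm_num) (by decide +kernel)).elim
  · exact (sieve_kill hG 43 1 85 (by norm_num) (by rw [hn]; norm_num) (by norm_num) (by norm_num) (by norm_num) (by decide +kernel)).elim
  · exact (sieve_kill hG 457 1 8 (by norm_num) (by rw [hn]; norm_num) (by norm_num) (by norm_num) (by norm_num) (by decide +kernel)).elim
  · exact (sieve_kill hG 53 1 69 (by norm_num) (by rw [hn]; norm_num) (by norm_num) (by norm_num) (by norm_num) (by decide +kernel)).elim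
  · exact (sieve_kill hG 59 1 62 (by norm_num) (by rw [hn]; norm_num) (by norm_num) (by norm_num) (by norm_num) (by decide +kernel)).elim
  · exact (not_prime_pow hG 3659 1 (by norm_num) (by rw [hn]; norm_num)).elim
  · exact (sieve_kill hG 61 1 60 (by norm_num) (by rw [hn]; norm_num) (by norm_num) (by norm_num) (by norm_num) (by decide +kernel)).elim
  · exact (sieve_kill hG 523 1 7 (by norm_num) (by rw [hn]; norm_num) (by norm_num) (by norm_num) (by norm_num) (by decide +kernel)).elim
  · exact (sieve_kill hG 1831 1 2 (by norm_num) (by rw [hn]; norm_num) (by norm_num) (by norm_num) (by norm_num) (by decide +kernel)).elim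
  · exact (sieve_kill hG 37 1 99 (by norm_num) (by rw [hn]; norm_num) (by norm_num) (by norm_num) (by norm_num) (by decide +kernel)).elim
  · exact (sieve_kill hG 229 1 16 (by norm_num) (by rw [hn]; norm_num) (by norm_num) (by norm_num) (by norm_num) (by decide +kernel)).elim
  · exact (sieve_kill hG 733 1 5 (by norm_num) (by rw [hn]; norm_num) (by norm_num) (by norm_num) (by norm_num) (by decide +kernel)).elim
  · exact (sieve_kill hG 47 1 78 (by norm_num) (by rw [hn]; norm_num) (by norm_num) (by norm_num) (by norm_num) (by decide +kernel)).elim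
  · exact (sieve_kill hG 193 1 19 (by norm_num) (by rw [hn]; norm_num) (by norm_num) (by norm_num) (by norm_num) (by decide +kernel)).elim
  · exact (sieve_kill hG 131 1 28 (by norm_num) (by rw [hn]; norm_num) (by norm_num) (by norm_num) (by norm_num) (by decide +kernel)).elim
  · exact (sieve_kill hG 1223 1 3 (by norm_num) (by rw [hn]; norm_num) (by norm_num) (by norm_num) (by norm_num) (by decide +kernel)).elim
  · exact (sieve_kill hG 367 1 10 (by norm_num) (by rw [hn]; norm_num) (by norm_num) (by norm_num) (by norm_num) (by decide +kernel)).elim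
  · exact (not_prime_pow hG 3671 1 (by norm_num) (by rw [hn]; norm_num)).elim
  · exact (kill_succ' hG 17 1 216 204 (by norm_num) (by rw [hn]; norm_num) (by norm_num) (by norm_num) (by norm_num) (by decide +kernel) (by norm_num) (by norm_num)).elim
  · exact (not_prime_pow hG 3673 1 (by norm_num) (by rw [hn]; norm_num)).elim
  · exact (sieve_kill hG 167 1 22 (by norm_num) (by rw [hn]; norm_num) (by norm_num) (by norm_num) (by norm_num) (by decide +kernel)).elim
  · exact (sieve_kill hG 3 1 1225 (by norm_num) (by rw [hn]; norm_num) (by norm_num) (by norm_num) (by norm_num) (by decide +kernel)).elim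
  · exact (sieve_kill hG 919 1 4 (by norm_num) (by rw [hn]; norm_num) (by norm_num) (by norm_num) (by norm_num) (by decide +kernel)).elim
  · exact (not_prime_pow hG 3677 1 (by norm_num) (by rw [hn]; norm_num)).elim
  · exact (sieve_kill hG 613 1 6 (by norm_num) (by rw [hn]; norm_num) (by norm_num) (by norm_num) (by norm_num) (by decide +kernel)).elim
  · exact (sieve_kill hG 283 1 13 (by norm_num) (by rw [hn]; norm_num) (by norm_num) (by norm_num) (by norm_num) (by decide +kernel)).elim
  · exact (sieve_kill hG 23 1 160 (by norm_num) (by rw [hn]; norm_num) (by norm_num) (by norm_num) (by norm_num) (by decide +kernel)).elim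
  · exact (sieve_kill hG 409 1 9 (by norm_num) (by rw [hn]; norm_num) (by norm_num) (by norm_num) (by norm_num) (by decide +kernel)).elim
  · exact (sieve_kill hG 263 1 14 (by norm_num) (by rw [hn]; norm_num) (by norm_num) (by norm_num) (by norm_num) (by decide +kernel)).elim
  · exact (sieve_kill hG 127 1 29 (by norm_num) (by rw [hn]; norm_num) (by norm_num) (by norm_num) (by norm_num) (by decide +kernel)).elim
  · exact (sieve_kill hG 307 1 12 (by norm_num) (by rw [hn]; norm_num) (by norm_num) (by norm_num) (by norm_num) (by decide +kernel)).elim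
  · exact (sieve_kill hG 67 1 55 (by norm_num) (by rw [hn]; norm_num) (by norm_num) (by norm_num) (by norm_num) (by decide +kernel)).elim
  · exact (sieve_kill hG 97 1 38 (by norm_num) (by rw [hn]; norm_num) (by norm_num) (by norm_num) (by norm_num) (by decide +kernel)).elim
  · exact (sieve_kill hG 1229 1 3 (by norm_num) (by rw [hn]; norm_num) (by norm_num) (by norm_num) (by norm_num) (by decide +kernel)).elim
  · exact (sieve_kill hG 461 1 8 (by norm_num) (by rw [hn]; norm_num) (by norm_num) (by norm_num) (by norm_num) (by decide +kernel)).elim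
  · exact (sieve_kill hG 31 1 119 (by norm_num) (by rw [hn]; norm_num) (by norm_num) (by norm_num) (by norm_num) (by decide +kernel)).elim
  · exact (sieve_kill hG 41 1 90 (by norm_num) (by rw [hn]; norm_num) (by norm_num) (by norm_num) (by norm_num) (by decide +kernel)).elim
  · exact (not_prime_pow hG 3691 1 (by norm_num) (by rw [hn]; norm_num)).elim
  · exact (sieve_kill hG 71 1 52 (by norm_num) (by rw [hn]; norm_num) (by norm_num) (by norm_num) (by norm_num) (by decide +kernel)).elim
  · exact (sieve_kill hG 1231 1 3 (by norm_num) (by rw [hn]; norm_num) (by norm_num) (by norm_num) (by norm_num) (by decide +kernel)).elim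
  · exact (sieve_kill hG 1847 1 2 (by norm_num) (by rw [hn]; norm_num) (by norm_num) (by norm_num) (by norm_num) (by decide +kernel)).elim
  · exact (sieve_kill hG 739 1 5 (by norm_num) (by rw [hn]; norm_num) (by norm_num) (by norm_num) (by norm_num) (by decide +kernel)).elim
  · exact (hand 3696 (by decide) hn).elim
  · exact (not_prime_pow hG 3697 1 (by norm_num) (by rw [hn]; norm_num)).elim
  · exact (sieve_kill hG 43 2 2 (by norm_num) (by rw [hn]; norm_num) (by norm_num) (by norm_num) (by norm_num) (by decide +kernel)).elim
  · exact (sieve_kill hG 137 1 27 (by norm_num) (by rw [hn]; norm_num) (by norm_num) (by norm_num) (by norm_num) (by decide +kernel)).elim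
  · exact (sieve_kill hG 37 1 100 (by norm_num) (by rw [hn]; norm_num) (by norm_num) (by norm_num) (by norm_num) (by decide +kernel)).elim
  · exact (not_prime_pow hG 3701 1 (by norm_num) (by rw [hn]; norm_num)).elim
  · exact (sieve_kill hG 617 1 6 (by norm_num) (by rw [hn]; norm_num) (by norm_num) (by norm_num) (by norm_num) (by decide +kernel)).elim
  · exact (sieve_kill hG 23 2 7 (by norm_num) (by rw [hn]; norm_num) (by norm_num) (by norm_num) (by norm_num) (by decide +kernel)).elim
  · exact (sieve_kill hG 463 1 8 (by norm_num) (by rw [hn]; norm_num) (by norm_num) (by norm_num) (by norm_num) (by decide +kernel)).elim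
  · exact (sieve_kill hG 19 1 195 (by norm_num) (by rw [hn]; norm_num) (by norm_num) (by norm_num) (by norm_num) (by decide +kernel)).elim
  · exact (sieve_kill hG 109 1 34 (by norm_num) (by rw [hn]; norm_num) (by norm_num) (by norm_num) (by norm_num) (by decide +kernel)).elim
  · exact (sieve_kill hG 337 1 11 (by norm_num) (by rw [hn]; norm_num) (by norm_num) (by norm_num) (by norm_num) (by decide +kernel)).elim
  · exact (sieve_kill hG 103 1 36 (by norm_num) (by rw [hn]; norm_num) (by norm_num) (by norm_num) (by norm_num) (by decide +kernel)).elim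
  · exact (not_prime_pow hG 3709 1 (by norm_num) (by rw [hn]; norm_num)).elim
  · exact (sieve_kill hG 53 1 70 (by norm_num) (by rw [hn]; norm_num) (by norm_num) (by norm_num) (by norm_num) (by decide +kernel)).elim
  · exact (sieve_kill hG 1237 1 3 (by norm_num) (by rw [hn]; norm_num) (by norm_num) (by norm_num) (by norm_num) (by decide +kernel)).elim
  · exact (sieve_kill hG 29 1 128 (by norm_num) (by rw [hn]; norm_num) (by norm_num) (by norm_num) (by norm_num) (by decide +kernel)).elim
  · exact (sieve_kill hG 79 1 47 (by norm_num) (by rw [hn]; norm_num) (by norm_num) (by norm_num) (by norm_num) (by decide +kernel)).elim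
  · exact (sieve_kill hG 619 1 6 (by norm_num) (by rw [hn]; norm_num) (by norm_num) (by norm_num) (by norm_num) (by decide +kernel)).elim
  · exact (sieve_kill hG 743 1 5 (by norm_num) (by rw [hn]; norm_num) (by norm_num) (by norm_num) (by norm_num) (by decide +kernel)).elim
  · exact (sieve_kill hG 929 1 4 (by norm_num) (by rw [hn]; norm_num) (by norm_num) (by norm_num) (by norm_num) (by decide +kernel)).elim
  · exact (sieve_kill hG 59 1 63 (by norm_num) (by rw [hn]; norm_num) (by norm_num) (by norm_num) (by norm_num) (by decide +kernel)).elim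
  · exact (sieve_kill hG 13 2 22 (by norm_num) (by rw [hn]; norm_num) (by norm_num) (by norm_num) (by norm_num) (by decide +kernel)).elim
  · exact (not_prime_pow hG 3719 1 (by norm_num) (by rw [hn]; norm_num)).elim
  · exact (sieve_kill hG 31 1 120 (by norm_num) (by rw [hn]; norm_num) (by norm_num) (by norm_num) (by norm_num) (by decide +kernel)).elim
  · exact (not_prime_pow hG 61 2 (by norm_num) (by rw [hn]; norm_num)).elim
  · exact (sieve_kill hG 1861 1 2 (by norm_num) (by rw [hn]; norm_num) (by norm_num) (by norm_num) (by norm_num) (by decide +kernel)).elim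
  · exact (sieve_kill hG 73 1 51 (by norm_num) (by rw [hn]; norm_num) (by norm_num) (by norm_num) (by norm_num) (by decide +kernel)).elim
  · exact (sieve_kill hG 19 1 196 (by norm_num) (by rw [hn]; norm_num) (by norm_num) (by norm_num) (by norm_num) (by decide +kernel)).elim
  · exact (sieve_kill hG 149 1 25 (by norm_num) (by rw [hn]; norm_num) (by norm_num) (by norm_num) (by norm_num) (by decide +kernel)).elim
  · exact (sieve_kill hG 23 1 162 (by norm_num) (by rw [hn]; norm_num) (by norm_num) (by norm_num) (by norm_num) (by decide +kernel)).elim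
  · exact (not_prime_pow hG 3727 1 (by norm_num) (by rw [hn]; norm_num)).elim
  · exact (sieve_kill hG 233 1 16 (by norm_num) (by rw [hn]; norm_num) (by norm_num) (by norm_num) (by norm_num) (by decide +kernel)).elim
  · exact (sieve_kill hG 113 1 33 (by norm_num) (by rw [hn]; norm_num) (by norm_num) (by norm_num) (by norm_num) (by decide +kernel)).elim
  · exact (sieve_kill hG 373 1 10 (by norm_num) (by rw [hn]; norm_num) (by norm_num) (by norm_num) (by norm_num) (by decide +kernel)).elim
  · exact (sieve_kill hG 41 1 91 (by norm_num) (by rw [hn]; norm_num) (by norm_num) (by norm_num) (by norm_num) (by decide +kernel)).elim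
  · exact (sieve_kill hG 311 1 12 (by norm_num) (by rw [hn]; norm_num) (by norm_num) (by norm_num) (by norm_num) (by decide +kernel)).elim
  · exact (not_prime_pow hG 3733 1 (by norm_num) (by rw [hn]; norm_num)).elim
  · exact (sieve_kill hG 1867 1 2 (by norm_num) (by rw [hn]; norm_num) (by norm_num) (by norm_num) (by norm_num) (by decide +kernel)).elim
  · exact (sieve_kill hG 83 1 45 (by norm_num) (by rw [hn]; norm_num) (by norm_num) (by norm_num) (by norm_num) (by decide +kernel)).elim
  · exact (sieve_kill hG 467 1 8 (by norm_num) (by rw [hn]; norm_num) (by norm_num) (by norm_num) (by norm_num) (by decide +kernel)).elim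
  · exact (sieve_kill hG 101 1 37 (by norm_num) (by rw [hn]; norm_num) (by norm_num) (by norm_num) (by norm_num) (by decide +kernel)).elim
  · exact (sieve_kill hG 89 1 42 (by norm_num) (by rw [hn]; norm_num) (by norm_num) (by norm_num) (by norm_num) (by decide +kernel)).elim
  · exact (not_prime_pow hG 3739 1 (by norm_num) (by rw [hn]; norm_num)).elim
  · exact (sieve_kill hG 17 1 220 (by norm_num) (by rw [hn]; norm_num) (by norm_num) (by norm_num) (by norm_num) (by decide +kernel)).elim

end Cfsg.Agent.Helper39.Ord983
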