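import Cfsg.Agent.Helper39.SimpOrd.Base
import Cfsg.Agent.Helper39.SimpOrd.Kit

set_option autoImplicit false
set_option maxHeartbeats 4000000
set_option maxRecDepth 100000

namespace Cfsg.Agent.Helper39.Ord983

open Cfsg.Agent.Helper9 Cfsg.Agent.Helper39.SimpOrd

theorem blk01 {G : Type*} [Group G] [Finite G] [IsSimpleGroup G]
    (hG : ¬ IsMulCommutative G) (hlo : 3741 ≤ Nat.card G) (hhi : Nat.card G ≤ 3840)
    (hand : ∀ n : ℕ, n ∈ ([3744, 3780, 3840] : List ℕ) → Nat.card G = n → False) :
    Nat.card G = 4080 ∨ Nat.card G = 5616 ∨ Nat.card G = 6048 ∨ Nat.card G = 6072 := by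
  generalize hn : Nat.card G = n at hlo hhi
  interval_cases n
  · exact (sieve_kill hG 43 1 87 (by norm_num) (by rw [hn]; norm_num) (by norm_num) (by norm_num) (by norm_num) (by decide +kernel)).elim
  · exact (sieve_kill hG 1871 1 2 (by norm_num) (by rw [hn]; norm_num) (by norm_num) (by norm_num) (by norm_num) (by decide +kernel)).elim
  · exact (sieve_kill hG 197 1 19 (by norm_num) (by rw [hn]; norm_num) (by norm_num) (by norm_num) (by norm_num) (by decide +kernel)).elim
  · exact (hand 3744 (by decide) hn).elim
  · exact (sieve_kill hG 107 1 35 (by norm_num) (by rw [hn]; norm_num) (by norm_num) (by norm_num) (by norm_num) (by decide +kernel)).elim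
  · exact (sieve_kill hG 1873 1 2 (by norm_num) (by rw [hn]; norm_num) (by norm_num) (by norm_num) (by norm_num) (by decide +kernel)).elim
  · exact (sieve_kill hG 1249 1 3 (by norm_num) (by rw [hn]; norm_num) (by norm_num) (by norm_num) (by norm_num) (by decide +kernel)).elim
  · exact (sieve_kill hG 937 1 4 (by norm_num) (by rw [hn]; norm_num) (by norm_num) (by norm_num) (by norm_num) (by decide +kernel)).elim
  · exact (sieve_kill hG 163 1 23 (by norm_num) (by rw [hn]; norm_num) (by norm_num) (by norm_num) (by norm_num) (by decide +kernel)).elim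
  · exact (sieve_kill hG 5 4 6 (by norm_num) (by rw [hn]; norm_num) (by norm_num) (by norm_num) (by norm_num) (by decide +kernel)).elim
  · exact (sieve_kill hG 31 1 121 (by norm_num) (by rw [hn]; norm_num) (by norm_num) (by norm_num) (by norm_num) (by decide +kernel)).elim
  · exact (sieve_kill hG 67 1 56 (by norm_num) (by rw [hn]; norm_num) (by norm_num) (by norm_num) (by norm_num) (by decide +kernel)).elim
  · exact (sieve_kill hG 139 1 27 (by norm_num) (by rw [hn]; norm_num) (by norm_num) (by norm_num) (by norm_num) (by decide +kernel)).elim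
  · exact (sieve_kill hG 1877 1 2 (by norm_num) (by rw [hn]; norm_num) (by norm_num) (by norm_num) (by norm_num) (by decide +kernel)).elim
  · exact (sieve_kill hG 751 1 5 (by norm_num) (by rw [hn]; norm_num) (by norm_num) (by norm_num) (by norm_num) (by decide +kernel)).elim
  · exact (sieve_kill hG 313 1 12 (by norm_num) (by rw [hn]; norm_num) (by norm_num) (by norm_num) (by norm_num) (by decide +kernel)).elim
  · exact (sieve_kill hG 17 2 13 (by norm_num) (by rw [hn]; norm_num) (by norm_num) (by norm_num) (by norm_num) (by decide +kernel)).elim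
  · exact (sieve_kill hG 1879 1 2 (by norm_num) (by rw [hn]; norm_num) (by norm_num) (by norm_num) (by norm_num) (by decide +kernel)).elim
  · exact (sieve_kill hG 179 1 21 (by norm_num) (by rw [hn]; norm_num) (by norm_num) (by norm_num) (by norm_num) (by decide +kernel)).elim
  · exact (sieve_kill hG 47 1 80 (by norm_num) (by rw [hn]; norm_num) (by norm_num) (by norm_num) (by norm_num) (by decide +kernel)).elim
  · exact (not_prime_pow hG 3761 1 (by norm_num) (by rw [hn]; norm_num)).elim
  · exact (sieve_kill hG 19 1 198 (by norm_num) (by rw [hn]; norm_num) (by norm_num) (by norm_num) (by norm_num) (by decide +kernel)).elim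
  · exact (sieve_kill hG 71 1 53 (by norm_num) (by rw [hn]; norm_num) (by norm_num) (by norm_num) (by norm_num) (by decide +kernel)).elim
  · exact (sieve_kill hG 941 1 4 (by norm_num) (by rw [hn]; norm_num) (by norm_num) (by norm_num) (by norm_num) (by decide +kernel)).elim
  · exact (sieve_kill hG 251 1 15 (by norm_num) (by rw [hn]; norm_num) (by norm_num) (by norm_num) (by norm_num) (by decide +kernel)).elim
  · exact (sieve_kill hG 269 1 14 (by norm_num) (by rw [hn]; norm_num) (by norm_num) (by norm_num) (by norm_num) (by decide +kernel)).elim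
  · exact (not_prime_pow hG 3767 1 (by norm_num) (by rw [hn]; norm_num)).elim
  · exact (sieve_kill hG 157 1 24 (by norm_num) (by rw [hn]; norm_num) (by norm_num) (by norm_num) (by norm_num) (by decide +kernel)).elim
  · exact (not_prime_pow hG 3769 1 (by norm_num) (by rw [hn]; norm_num)).elim
  · exact (sieve_kill hG 29 1 130 (by norm_num) (by rw [hn]; norm_num) (by norm_num) (by norm_num) (by norm_num) (by decide +kernel)).elim
  · exact (sieve_kill hG 419 1 9 (by norm_num) (by rw [hn]; norm_num) (by norm_num) (by norm_num) (by norm_num) (by decide +kernel)).elim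
  · exact (sieve_kill hG 41 1 92 (by norm_num) (by rw [hn]; norm_num) (by norm_num) (by norm_num) (by norm_num) (by decide +kernel)).elim
  · exact (sieve_kill hG 11 1 343 (by norm_num) (by rw [hn]; norm_num) (by norm_num) (by norm_num) (by norm_num) (by decide +kernel)).elim
  · exact (sieve_kill hG 37 1 102 (by norm_num) (by rw [hn]; norm_num) (by norm_num) (by norm_num) (by norm_num) (by decide +kernel)).elim
  · exact (sieve_kill hG 151 1 25 (by norm_num) (by rw [hn]; norm_num) (by norm_num) (by norm_num) (by norm_num) (by decide +kernel)).elim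
  · exact (sieve_kill hG 59 1 64 (by norm_num) (by rw [hn]; norm_num) (by norm_num) (by norm_num) (by norm_num) (by decide +kernel)).elim
  · exact (sieve_kill hG 1259 1 3 (by norm_num) (by rw [hn]; norm_num) (by norm_num) (by norm_num) (by norm_num) (by decide +kernel)).elim
  · exact (sieve_kill hG 1889 1 2 (by norm_num) (by rw [hn]; norm_num) (by norm_num) (by norm_num) (by norm_num) (by decide +kernel)).elim
  · exact (not_prime_pow hG 3779 1 (by norm_num) (by rw [hn]; norm_num)).elim
  · exact (hand 3780 (by decide) hn).elim
  · exact (sieve_kill hG 199 1 19 (by norm_num) (by rw [hn]; norm_num) (by norm_num) (by norm_num) (by norm_num) (by decide +kernel)).elim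
  · exact (sieve_kill hG 61 1 62 (by norm_num) (by rw [hn]; norm_num) (by norm_num) (by norm_num) (by norm_num) (by decide +kernel)).elim
  · exact (sieve_kill hG 97 1 39 (by norm_num) (by rw [hn]; norm_num) (by norm_num) (by norm_num) (by norm_num) (by decide +kernel)).elim
  · exact (sieve_kill hG 11 1 344 (by norm_num) (by rw [hn]; norm_num) (by norm_num) (by norm_num) (by norm_num) (by decide +kernel)).elim
  · exact (sieve_kill hG 757 1 5 (by norm_num) (by rw [hn]; norm_num) (by norm_num) (by norm_num) (by norm_num) (by decide +kernel)).elim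
  · exact (sieve_kill hG 631 1 6 (by norm_num) (by rw [hn]; norm_num) (by norm_num) (by norm_num) (by norm_num) (by decide +kernel)).elim
  · exact (sieve_kill hG 541 1 7 (by norm_num) (by rw [hn]; norm_num) (by norm_num) (by norm_num) (by norm_num) (by decide +kernel)).elim
  · exact (sieve_kill hG 947 1 4 (by norm_num) (by rw [hn]; norm_num) (by norm_num) (by norm_num) (by norm_num) (by decide +kernel)).elim
  · exact (sieve_kill hG 421 1 9 (by norm_num) (by rw [hn]; norm_num) (by norm_num) (by norm_num) (by norm_num) (by decide +kernel)).elim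
  · exact (sieve_kill hG 379 1 10 (by norm_num) (by rw [hn]; norm_num) (by norm_num) (by norm_num) (by norm_num) (by decide +kernel)).elim
  · exact (sieve_kill hG 223 1 17 (by norm_num) (by rw [hn]; norm_num) (by norm_num) (by norm_num) (by norm_num) (by decide +kernel)).elim
  · exact (sieve_kill hG 79 1 48 (by norm_num) (by rw [hn]; norm_num) (by norm_num) (by norm_num) (by norm_num) (by decide +kernel)).elim
  · exact (not_prime_pow hG 3793 1 (by norm_num) (by rw [hn]; norm_num)).elim
  · exact (sieve_kill hG 271 1 14 (by norm_num) (by rw [hn]; norm_num) (by norm_num) (by norm_num) (by norm_num) (by decide +kernel)).elim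
  · exact (sieve_kill hG 23 1 165 (by norm_num) (by rw [hn]; norm_num) (by norm_num) (by norm_num) (by norm_num) (by decide +kernel)).elim
  · exact (sieve_kill hG 73 1 52 (by norm_num) (by rw [hn]; norm_num) (by norm_num) (by norm_num) (by norm_num) (by decide +kernel)).elim
  · exact (not_prime_pow hG 3797 1 (by norm_num) (by rw [hn]; norm_num)).elim
  · exact (sieve_kill hG 211 1 18 (by norm_num) (by rw [hn]; norm_num) (by norm_num) (by norm_num) (by norm_num) (by decide +kernel)).elim
  · exact (sieve_kill hG 131 1 29 (by norm_num) (by rw [hn]; norm_num) (by norm_num) (by norm_num) (by norm_num) (by decide +kernel)).elim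
  · exact (not_s0499 hG (by rw [hn]; decide) (by rw [hn]; norm_num) (by rw [hn]; norm_num) (by rw [hn]; norm_num)).elim
  · exact (sieve_kill hG 181 1 21 (by norm_num) (by rw [hn]; norm_num) (by norm_num) (by norm_num) (by norm_num) (by decide +kernel)).elim
  · exact (sieve_kill hG 1901 1 2 (by norm_num) (by rw [hn]; norm_num) (by norm_num) (by norm_num) (by norm_num) (by decide +kernel)).elim
  · exact (not_prime_pow hG 3803 1 (by norm_num) (by rw [hn]; norm_num)).elim
  · exact (sieve_kill hG 317 1 12 (by norm_num) (by rw [hn]; norm_num) (by norm_num) (by norm_num) (by norm_num) (by decide +kernel)).elim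
  · exact (sieve_kill hG 761 1 5 (by norm_num) (by rw [hn]; norm_num) (by norm_num) (by norm_num) (by norm_num) (by decide +kernel)).elim
  · exact (sieve_kill hG 173 1 22 (by norm_num) (by rw [hn]; norm_num) (by norm_num) (by norm_num) (by norm_num) (by decide +kernel)).elim
  · exact (sieve_kill hG 47 1 81 (by norm_num) (by rw [hn]; norm_num) (by norm_num) (by norm_num) (by norm_num) (by decide +kernel)).elim
  · exact (sieve_kill hG 17 1 224 (by norm_num) (by rw [hn]; norm_num) (by norm_num) (by norm_num) (by norm_num) (by decide +kernel)).elim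
  · exact (sieve_kill hG 293 1 13 (by norm_num) (by rw [hn]; norm_num) (by norm_num) (by norm_num) (by norm_num) (by decide +kernel)).elim
  · exact (sieve_kill hG 127 1 30 (by norm_num) (by rw [hn]; norm_num) (by norm_num) (by norm_num) (by norm_num) (by decide +kernel)).elim
  · exact (sieve_kill hG 103 1 37 (by norm_num) (by rw [hn]; norm_num) (by norm_num) (by norm_num) (by norm_num) (by decide +kernel)).elim
  · exact (sieve_kill hG 953 1 4 (by norm_num) (by rw [hn]; norm_num) (by norm_num) (by norm_num) (by norm_num) (by decide +kernel)).elim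
  · exact (sieve_kill hG 41 1 93 (by norm_num) (by rw [hn]; norm_num) (by norm_num) (by norm_num) (by norm_num) (by decide +kernel)).elim
  · exact (sieve_kill hG 1907 1 2 (by norm_num) (by rw [hn]; norm_num) (by norm_num) (by norm_num) (by norm_num) (by decide +kernel)).elim
  · exact (sieve_kill hG 109 1 35 (by norm_num) (by rw [hn]; norm_num) (by norm_num) (by norm_num) (by norm_num) (by decide +kernel)).elim
  · exact (sieve_kill hG 53 1 72 (by norm_num) (by rw [hn]; norm_num) (by norm_num) (by norm_num) (by norm_num) (by decide +kernel)).elim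
  · exact (sieve_kill hG 347 1 11 (by norm_num) (by rw [hn]; norm_num) (by norm_num) (by norm_num) (by norm_num) (by decide +kernel)).elim
  · exact (sieve_kill hG 83 1 46 (by norm_num) (by rw [hn]; norm_num) (by norm_num) (by norm_num) (by norm_num) (by decide +kernel)).elim
  · exact (sieve_kill hG 67 1 57 (by norm_num) (by rw [hn]; norm_num) (by norm_num) (by norm_num) (by norm_num) (by decide +kernel)).elim
  · exact (sieve_kill hG 191 1 20 (by norm_num) (by rw [hn]; norm_num) (by norm_num) (by norm_num) (by norm_num) (by decide +kernel)).elim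
  · exact (not_prime_pow hG 3821 1 (by norm_num) (by rw [hn]; norm_num)).elim
  · exact (sieve_kill hG 2 1 1911 (by norm_num) (by rw [hn]; norm_num) (by norm_num) (by norm_num) (by norm_num) (by decide +kernel)).elim
  · exact (not_prime_pow hG 3823 1 (by norm_num) (by rw [hn]; norm_num)).elim
  · exact (sieve_kill hG 239 1 16 (by norm_num) (by rw [hn]; norm_num) (by norm_num) (by norm_num) (by norm_num) (by decide +kernel)).elim
  · exact (sieve_kill hG 17 1 225 (by norm_num) (by rw [hn]; norm_num) (by norm_num) (by norm_num) (by norm_num) (by decide +kernel)).elim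
  · exact (sieve_kill hG 1913 1 2 (by norm_num) (by rw [hn]; norm_num) (by norm_num) (by norm_num) (by norm_num) (by decide +kernel)).elim
  · exact (sieve_kill hG 89 1 43 (by norm_num) (by rw [hn]; norm_num) (by norm_num) (by norm_num) (by norm_num) (by decide +kernel)).elim
  · exact (sieve_kill hG 29 1 132 (by norm_num) (by rw [hn]; norm_num) (by norm_num) (by norm_num) (by norm_num) (by decide +kernel)).elim
  · exact (sieve_kill hG 547 1 7 (by norm_num) (by rw [hn]; norm_num) (by norm_num) (by norm_num) (by norm_num) (by decide +kernel)).elim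
  · exact (sieve_kill hG 383 1 10 (by norm_num) (by rw [hn]; norm_num) (by norm_num) (by norm_num) (by norm_num) (by decide +kernel)).elim
  · exact (sieve_kill hG 1277 1 3 (by norm_num) (by rw [hn]; norm_num) (by norm_num) (by norm_num) (by norm_num) (by decide +kernel)).elim
  · exact (sieve_kill hG 479 1 8 (by norm_num) (by rw [hn]; norm_num) (by norm_num) (by norm_num) (by norm_num) (by decide +kernel)).elim
  · exact (not_prime_pow hG 3833 1 (by norm_num) (by rw [hn]; norm_num)).elim
  · exact (sieve_kill hG 71 1 54 (by norm_num) (by rw [hn]; norm_num) (by norm_num) (by norm_num) (by norm_num) (by decide +kernel)).elim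
  · exact (sieve_kill hG 59 1 65 (by norm_num) (by rw [hn]; norm_num) (by norm_num) (by norm_num) (by norm_num) (by decide +kernel)).elim
  · exact (sieve_kill hG 137 1 28 (by norm_num) (by rw [hn]; norm_num) (by norm_num) (by norm_num) (by norm_num) (by decide +kernel)).elim
  · exact (sieve_kill hG 1279 1 3 (by norm_num) (by rw [hn]; norm_num) (by norm_num) (by norm_num) (by norm_num) (by decide +kernel)).elim
  · exact (sieve_kill hG 101 1 38 (by norm_num) (by rw [hn]; norm_num) (by norm_num) (by norm_num) (by norm_num) (by decide +kernel)).elim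
  · exact (sieve_kill hG 349 1 11 (by norm_num) (by rw [hn]; norm_num) (by norm_num) (by norm_num) (by norm_num) (by decide +kernel)).elim
  · exact (hand 3840 (by decide) hn).elim

end Cfsg.Agent.Helper39.Ord983
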