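import Cfsg.Agent.Helper39.SimpOrd.Base
import Cfsg.Agent.Helper39.SimpOrd.Kit

set_option autoImplicit false
set_option maxHeartbeats 4000000
set_option maxRecDepth 100000

namespace Cfsg.Agent.Helper39.Ord983

open Cfsg.Agent.Helper9 Cfsg.Agent.Helper39.SimpOrd

theorem blk02 {G : Type*} [Group G] [Finite G] [IsSimpleGroup G]
    (hG : ¬ IsMulCommutative G) (hlo : 3841 ≤ Nat.card G) (hhi : Nat.card G ≤ 3940)
    (hand : ∀ n : ℕ, n ∈ ([] : List ℕ) → Nat.card G = n → False) :
    Nat.card G = 4080 ∨ Nat.card G = 5616 ∨ Nat.card G = 6048 ∨ Nat.card G = 6072 := by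
  generalize hn : Nat.card G = n at hlo hhi
  interval_cases n
  · exact (sieve_kill hG 167 1 23 (by norm_num) (by rw [hn]; norm_num) (by norm_num) (by norm_num) (by norm_num) (by decide +kernel)).elim
  · exact (sieve_kill hG 113 1 34 (by norm_num) (by rw [hn]; norm_num) (by norm_num) (by norm_num) (by norm_num) (by decide +kernel)).elim
  · exact (sieve_kill hG 61 1 63 (by norm_num) (by rw [hn]; norm_num) (by norm_num) (by norm_num) (by norm_num) (by decide +kernel)).elim
  · exact (sieve_kill hG 31 2 4 (by norm_num) (by rw [hn]; norm_num) (by norm_num) (by norm_num) (by norm_num) (by decide +kernel)).elim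
  · exact (sieve_kill hG 769 1 5 (by norm_num) (by rw [hn]; norm_num) (by norm_num) (by norm_num) (by norm_num) (by decide +kernel)).elim
  · exact (sieve_kill hG 641 1 6 (by norm_num) (by rw [hn]; norm_num) (by norm_num) (by norm_num) (by norm_num) (by decide +kernel)).elim
  · exact (not_prime_pow hG 3847 1 (by norm_num) (by rw [hn]; norm_num)).elim
  · exact (sieve_kill hG 37 1 104 (by norm_num) (by rw [hn]; norm_num) (by norm_num) (by norm_num) (by norm_num) (by decide +kernel)).elim
  · exact (sieve_kill hG 1283 1 3 (by norm_num) (by rw [hn]; norm_num) (by norm_num) (by norm_num) (by norm_num) (by decide +kernel)).elim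
  · exact (sieve_kill hG 11 1 350 (by norm_num) (by rw [hn]; norm_num) (by norm_num) (by norm_num) (by norm_num) (by decide +kernel)).elim
  · exact (not_prime_pow hG 3851 1 (by norm_num) (by rw [hn]; norm_num)).elim
  · exact (sieve_kill hG 107 1 36 (by norm_num) (by rw [hn]; norm_num) (by norm_num) (by norm_num) (by norm_num) (by decide +kernel)).elim
  · exact (not_prime_pow hG 3853 1 (by norm_num) (by rw [hn]; norm_num)).elim
  · exact (sieve_kill hG 47 1 82 (by norm_num) (by rw [hn]; norm_num) (by norm_num) (by norm_num) (by norm_num) (by decide +kernel)).elim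
  · exact (sieve_kill hG 257 1 15 (by norm_num) (by rw [hn]; norm_num) (by norm_num) (by norm_num) (by norm_num) (by decide +kernel)).elim
  · exact (sieve_kill hG 241 1 16 (by norm_num) (by rw [hn]; norm_num) (by norm_num) (by norm_num) (by norm_num) (by decide +kernel)).elim
  · exact (sieve_kill hG 29 1 133 (by norm_num) (by rw [hn]; norm_num) (by norm_num) (by norm_num) (by norm_num) (by decide +kernel)).elim
  · exact (sieve_kill hG 643 1 6 (by norm_num) (by rw [hn]; norm_num) (by norm_num) (by norm_num) (by norm_num) (by decide +kernel)).elim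
  · exact (sieve_kill hG 227 1 17 (by norm_num) (by rw [hn]; norm_num) (by norm_num) (by norm_num) (by norm_num) (by decide +kernel)).elim
  · exact (sieve_kill hG 193 1 20 (by norm_num) (by rw [hn]; norm_num) (by norm_num) (by norm_num) (by norm_num) (by decide +kernel)).elim
  · exact (sieve_kill hG 13 1 297 (by norm_num) (by rw [hn]; norm_num) (by norm_num) (by norm_num) (by norm_num) (by decide +kernel)).elim
  · exact (sieve_kill hG 1931 1 2 (by norm_num) (by rw [hn]; norm_num) (by norm_num) (by norm_num) (by norm_num) (by decide +kernel)).elim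
  · exact (not_prime_pow hG 3863 1 (by norm_num) (by rw [hn]; norm_num)).elim
  · exact (sieve_kill hG 23 1 168 (by norm_num) (by rw [hn]; norm_num) (by norm_num) (by norm_num) (by norm_num) (by decide +kernel)).elim
  · exact (sieve_kill hG 773 1 5 (by norm_num) (by rw [hn]; norm_num) (by norm_num) (by norm_num) (by norm_num) (by decide +kernel)).elim
  · exact (sieve_kill hG 1933 1 2 (by norm_num) (by rw [hn]; norm_num) (by norm_num) (by norm_num) (by norm_num) (by decide +kernel)).elim
  · exact (sieve_kill hG 1289 1 3 (by norm_num) (by rw [hn]; norm_num) (by norm_num) (by norm_num) (by norm_num) (by decide +kernel)).elim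
  · exact (sieve_kill hG 967 1 4 (by norm_num) (by rw [hn]; norm_num) (by norm_num) (by norm_num) (by norm_num) (by decide +kernel)).elim
  · exact (sieve_kill hG 73 1 53 (by norm_num) (by rw [hn]; norm_num) (by norm_num) (by norm_num) (by norm_num) (by decide +kernel)).elim
  · exact (sieve_kill hG 43 1 90 (by norm_num) (by rw [hn]; norm_num) (by norm_num) (by norm_num) (by norm_num) (by decide +kernel)).elim
  · exact (sieve_kill hG 79 1 49 (by norm_num) (by rw [hn]; norm_num) (by norm_num) (by norm_num) (by norm_num) (by decide +kernel)).elim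
  · exact (sieve_kill hG 11 2 32 (by norm_num) (by rw [hn]; norm_num) (by norm_num) (by norm_num) (by norm_num) (by decide +kernel)).elim
  · exact (sieve_kill hG 1291 1 3 (by norm_num) (by rw [hn]; norm_num) (by norm_num) (by norm_num) (by norm_num) (by decide +kernel)).elim
  · exact (sieve_kill hG 149 1 26 (by norm_num) (by rw [hn]; norm_num) (by norm_num) (by norm_num) (by norm_num) (by decide +kernel)).elim
  · exact (sieve_kill hG 31 1 125 (by norm_num) (by rw [hn]; norm_num) (by norm_num) (by norm_num) (by norm_num) (by decide +kernel)).elim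
  · exact (sieve_kill hG 19 1 204 (by norm_num) (by rw [hn]; norm_num) (by norm_num) (by norm_num) (by norm_num) (by decide +kernel)).elim
  · exact (not_prime_pow hG 3877 1 (by norm_num) (by rw [hn]; norm_num)).elim
  · exact (sieve_kill hG 277 1 14 (by norm_num) (by rw [hn]; norm_num) (by norm_num) (by norm_num) (by norm_num) (by decide +kernel)).elim
  · exact (sieve_kill hG 431 1 9 (by norm_num) (by rw [hn]; norm_num) (by norm_num) (by norm_num) (by norm_num) (by decide +kernel)).elim
  · exact (sieve_kill hG 97 1 40 (by norm_num) (by rw [hn]; norm_num) (by norm_num) (by norm_num) (by norm_num) (by decide +kernel)).elim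
  · exact (not_prime_pow hG 3881 1 (by norm_num) (by rw [hn]; norm_num)).elim
  · exact (sieve_kill hG 647 1 6 (by norm_num) (by rw [hn]; norm_num) (by norm_num) (by norm_num) (by norm_num) (by decide +kernel)).elim
  · exact (sieve_kill hG 353 1 11 (by norm_num) (by rw [hn]; norm_num) (by norm_num) (by norm_num) (by norm_num) (by decide +kernel)).elim
  · exact (sieve_kill hG 971 1 4 (by norm_num) (by rw [hn]; norm_num) (by norm_num) (by norm_num) (by norm_num) (by decide +kernel)).elim
  · exact (sieve_kill hG 37 1 105 (by norm_num) (by rw [hn]; norm_num) (by norm_num) (by norm_num) (by norm_num) (by decide +kernel)).elim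
  · exact (sieve_kill hG 67 1 58 (by norm_num) (by rw [hn]; norm_num) (by norm_num) (by norm_num) (by norm_num) (by decide +kernel)).elim
  · exact (sieve_kill hG 23 1 169 (by norm_num) (by rw [hn]; norm_num) (by norm_num) (by norm_num) (by norm_num) (by decide +kernel)).elim
  · exact (not_paqb hG 2 3 4 5 (by norm_num) (by norm_num) (by rw [hn]; norm_num)).elim
  · exact (not_prime_pow hG 3889 1 (by norm_num) (by rw [hn]; norm_num)).elim
  · exact (sieve_kill hG 389 1 10 (by norm_num) (by rw [hn]; norm_num) (by norm_num) (by norm_num) (by norm_num) (by decide +kernel)).elim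
  · exact (sieve_kill hG 1297 1 3 (by norm_num) (by rw [hn]; norm_num) (by norm_num) (by norm_num) (by norm_num) (by decide +kernel)).elim
  · exact (sieve_kill hG 139 1 28 (by norm_num) (by rw [hn]; norm_num) (by norm_num) (by norm_num) (by norm_num) (by decide +kernel)).elim
  · exact (sieve_kill hG 229 1 17 (by norm_num) (by rw [hn]; norm_num) (by norm_num) (by norm_num) (by norm_num) (by decide +kernel)).elim
  · exact (sieve_kill hG 59 1 66 (by norm_num) (by rw [hn]; norm_num) (by norm_num) (by norm_num) (by norm_num) (by decide +kernel)).elim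
  · exact (sieve_kill hG 41 1 95 (by norm_num) (by rw [hn]; norm_num) (by norm_num) (by norm_num) (by norm_num) (by decide +kernel)).elim
  · exact (sieve_kill hG 487 1 8 (by norm_num) (by rw [hn]; norm_num) (by norm_num) (by norm_num) (by norm_num) (by decide +kernel)).elim
  · exact (sieve_kill hG 433 1 9 (by norm_num) (by rw [hn]; norm_num) (by norm_num) (by norm_num) (by norm_num) (by decide +kernel)).elim
  · exact (sieve_kill hG 1949 1 2 (by norm_num) (by rw [hn]; norm_num) (by norm_num) (by norm_num) (by norm_num) (by decide +kernel)).elim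
  · exact (sieve_kill hG 557 1 7 (by norm_num) (by rw [hn]; norm_num) (by norm_num) (by norm_num) (by norm_num) (by decide +kernel)).elim
  · exact (sieve_kill hG 13 1 300 (by norm_num) (by rw [hn]; norm_num) (by norm_num) (by norm_num) (by norm_num) (by decide +kernel)).elim
  · exact (sieve_kill hG 83 1 47 (by norm_num) (by rw [hn]; norm_num) (by norm_num) (by norm_num) (by norm_num) (by decide +kernel)).elim
  · exact (sieve_kill hG 1951 1 2 (by norm_num) (by rw [hn]; norm_num) (by norm_num) (by norm_num) (by norm_num) (by decide +kernel)).elim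
  · exact (sieve_kill hG 1301 1 3 (by norm_num) (by rw [hn]; norm_num) (by norm_num) (by norm_num) (by norm_num) (by decide +kernel)).elim
  · exact (sieve_kill hG 61 1 64 (by norm_num) (by rw [hn]; norm_num) (by norm_num) (by norm_num) (by norm_num) (by decide +kernel)).elim
  · exact (sieve_kill hG 71 1 55 (by norm_num) (by rw [hn]; norm_num) (by norm_num) (by norm_num) (by norm_num) (by decide +kernel)).elim
  · exact (sieve_kill hG 7 1 558 (by norm_num) (by rw [hn]; norm_num) (by norm_num) (by norm_num) (by norm_num) (by decide +kernel)).elim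
  · exact (not_prime_pow hG 3907 1 (by norm_num) (by rw [hn]; norm_num)).elim
  · exact (sieve_kill hG 977 1 4 (by norm_num) (by rw [hn]; norm_num) (by norm_num) (by norm_num) (by norm_num) (by decide +kernel)).elim
  · exact (sieve_kill hG 1303 1 3 (by norm_num) (by rw [hn]; norm_num) (by norm_num) (by norm_num) (by norm_num) (by decide +kernel)).elim
  · exact (sieve_kill hG 23 1 170 (by norm_num) (by rw [hn]; norm_num) (by norm_num) (by norm_num) (by norm_num) (by decide +kernel)).elim
  · exact (not_prime_pow hG 3911 1 (by norm_num) (by rw [hn]; norm_num)).elim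
  · exact (sieve_kill hG 163 1 24 (by norm_num) (by rw [hn]; norm_num) (by norm_num) (by norm_num) (by norm_num) (by decide +kernel)).elim
  · exact (sieve_kill hG 43 1 91 (by norm_num) (by rw [hn]; norm_num) (by norm_num) (by norm_num) (by norm_num) (by decide +kernel)).elim
  · exact (sieve_kill hG 103 1 38 (by norm_num) (by rw [hn]; norm_num) (by norm_num) (by norm_num) (by norm_num) (by decide +kernel)).elim
  · exact (sieve_kill hG 29 1 135 (by norm_num) (by rw [hn]; norm_num) (by norm_num) (by norm_num) (by norm_num) (by decide +kernel)).elim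
  · exact (sieve_kill hG 89 1 44 (by norm_num) (by rw [hn]; norm_num) (by norm_num) (by norm_num) (by norm_num) (by decide +kernel)).elim
  · exact (not_prime_pow hG 3917 1 (by norm_num) (by rw [hn]; norm_num)).elim
  · exact (sieve_kill hG 653 1 6 (by norm_num) (by rw [hn]; norm_num) (by norm_num) (by norm_num) (by norm_num) (by decide +kernel)).elim
  · exact (not_prime_pow hG 3919 1 (by norm_num) (by rw [hn]; norm_num)).elim
  · exact (sieve_kill hG 7 2 80 (by norm_num) (by rw [hn]; norm_num) (by norm_num) (by norm_num) (by norm_num) (by decide +kernel)).elim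
  · exact (sieve_kill hG 1307 1 3 (by norm_num) (by rw [hn]; norm_num) (by norm_num) (by norm_num) (by norm_num) (by decide +kernel)).elim
  · exact (sieve_kill hG 53 1 74 (by norm_num) (by rw [hn]; norm_num) (by norm_num) (by norm_num) (by norm_num) (by decide +kernel)).elim
  · exact (not_prime_pow hG 3923 1 (by norm_num) (by rw [hn]; norm_num)).elim
  · exact (sieve_kill hG 109 1 36 (by norm_num) (by rw [hn]; norm_num) (by norm_num) (by norm_num) (by norm_num) (by decide +kernel)).elim
  · exact (sieve_kill hG 157 1 25 (by norm_num) (by rw [hn]; norm_num) (by norm_num) (by norm_num) (by norm_num) (by decide +kernel)).elim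
  · exact (sieve_kill hG 151 1 26 (by norm_num) (by rw [hn]; norm_num) (by norm_num) (by norm_num) (by norm_num) (by decide +kernel)).elim
  · exact (sieve_kill hG 17 1 231 (by norm_num) (by rw [hn]; norm_num) (by norm_num) (by norm_num) (by norm_num) (by decide +kernel)).elim
  · exact (sieve_kill hG 491 1 8 (by norm_num) (by rw [hn]; norm_num) (by norm_num) (by norm_num) (by norm_num) (by decide +kernel)).elim
  · exact (not_prime_pow hG 3929 1 (by norm_num) (by rw [hn]; norm_num)).elim
  · exact (sieve_kill hG 131 1 30 (by norm_num) (by rw [hn]; norm_num) (by norm_num) (by norm_num) (by norm_num) (by decide +kernel)).elim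
  · exact (not_prime_pow hG 3931 1 (by norm_num) (by rw [hn]; norm_num)).elim
  · exact (sieve_kill hG 983 1 4 (by norm_num) (by rw [hn]; norm_num) (by norm_num) (by norm_num) (by norm_num) (by decide +kernel)).elim
  · exact (sieve_kill hG 23 1 171 (by norm_num) (by rw [hn]; norm_num) (by norm_num) (by norm_num) (by norm_num) (by decide +kernel)).elim
  · exact (sieve_kill hG 281 1 14 (by norm_num) (by rw [hn]; norm_num) (by norm_num) (by norm_num) (by norm_num) (by decide +kernel)).elim
  · exact (sieve_kill hG 787 1 5 (by norm_num) (by rw [hn]; norm_num) (by norm_num) (by norm_num) (by norm_num) (by decide +kernel)).elim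
  · exact (sieve_kill hG 41 1 96 (by norm_num) (by rw [hn]; norm_num) (by norm_num) (by norm_num) (by norm_num) (by decide +kernel)).elim
  · exact (sieve_kill hG 127 1 31 (by norm_num) (by rw [hn]; norm_num) (by norm_num) (by norm_num) (by norm_num) (by decide +kernel)).elim
  · exact (sieve_kill hG 179 1 22 (by norm_num) (by rw [hn]; norm_num) (by norm_num) (by norm_num) (by norm_num) (by decide +kernel)).elim
  · exact (sieve_kill hG 101 1 39 (by norm_num) (by rw [hn]; norm_num) (by norm_num) (by norm_num) (by norm_num) (by decide +kernel)).elim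
  · exact (sieve_kill hG 197 1 20 (by norm_num) (by rw [hn]; norm_num) (by norm_num) (by norm_num) (by norm_num) (by decide +kernel)).elim

end Cfsg.Agent.Helper39.Ord983
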