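import Cfsg.Agent.Helper39.SimpOrd.Base
import Cfsg.Agent.Helper39.SimpOrd.Kit

set_option autoImplicit false
set_option maxHeartbeats 4000000
set_option maxRecDepth 100000

namespace Cfsg.Agent.Helper39.Ord983

open Cfsg.Agent.Helper9 Cfsg.Agent.Helper39.SimpOrd

theorem blk03 {G : Type*} [Group G] [Finite G] [IsSimpleGroup G]
    (hG : ¬ IsMulCommutative G) (hlo : 3941 ≤ Nat.card G) (hhi : Nat.card G ≤ 4040)
    (hand : ∀ n : ℕ, n ∈ ([3960, 4032] : List ℕ) → Nat.card G = n → False) :
    Nat.card G = 4080 ∨ Nat.card G = 5616 ∨ Nat.card G = 6048 ∨ Nat.card G = 6072 := by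
  generalize hn : Nat.card G = n at hlo hhi
  interval_cases n
  · exact (sieve_kill hG 563 1 7 (by norm_num) (by rw [hn]; norm_num) (by norm_num) (by norm_num) (by norm_num) (by decide +kernel)).elim
  · exact (sieve_kill hG 73 1 54 (by norm_num) (by rw [hn]; norm_num) (by norm_num) (by norm_num) (by norm_num) (by decide +kernel)).elim
  · exact (not_prime_pow hG 3943 1 (by norm_num) (by rw [hn]; norm_num)).elim
  · exact (sieve_kill hG 29 1 136 (by norm_num) (by rw [hn]; norm_num) (by norm_num) (by norm_num) (by norm_num) (by decide +kernel)).elim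
  · exact (sieve_kill hG 263 1 15 (by norm_num) (by rw [hn]; norm_num) (by norm_num) (by norm_num) (by norm_num) (by decide +kernel)).elim
  · exact (sieve_kill hG 1973 1 2 (by norm_num) (by rw [hn]; norm_num) (by norm_num) (by norm_num) (by norm_num) (by decide +kernel)).elim
  · exact (not_prime_pow hG 3947 1 (by norm_num) (by rw [hn]; norm_num)).elim
  · exact (sieve_kill hG 47 1 84 (by norm_num) (by rw [hn]; norm_num) (by norm_num) (by norm_num) (by norm_num) (by decide +kernel)).elim
  · exact (sieve_kill hG 359 1 11 (by norm_num) (by rw [hn]; norm_num) (by norm_num) (by norm_num) (by norm_num) (by decide +kernel)).elim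
  · exact (sieve_kill hG 79 1 50 (by norm_num) (by rw [hn]; norm_num) (by norm_num) (by norm_num) (by norm_num) (by decide +kernel)).elim
  · exact (sieve_kill hG 439 1 9 (by norm_num) (by rw [hn]; norm_num) (by norm_num) (by norm_num) (by norm_num) (by decide +kernel)).elim
  · exact (sieve_kill hG 19 1 208 (by norm_num) (by rw [hn]; norm_num) (by norm_num) (by norm_num) (by norm_num) (by decide +kernel)).elim
  · exact (sieve_kill hG 67 1 59 (by norm_num) (by rw [hn]; norm_num) (by norm_num) (by norm_num) (by norm_num) (by decide +kernel)).elim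
  · exact (sieve_kill hG 659 1 6 (by norm_num) (by rw [hn]; norm_num) (by norm_num) (by norm_num) (by norm_num) (by decide +kernel)).elim
  · exact (sieve_kill hG 113 1 35 (by norm_num) (by rw [hn]; norm_num) (by norm_num) (by norm_num) (by norm_num) (by decide +kernel)).elim
  · exact (sieve_kill hG 43 1 92 (by norm_num) (by rw [hn]; norm_num) (by norm_num) (by norm_num) (by norm_num) (by decide +kernel)).elim
  · exact (sieve_kill hG 1319 1 3 (by norm_num) (by rw [hn]; norm_num) (by norm_num) (by norm_num) (by norm_num) (by decide +kernel)).elim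
  · exact (sieve_kill hG 1979 1 2 (by norm_num) (by rw [hn]; norm_num) (by norm_num) (by norm_num) (by norm_num) (by decide +kernel)).elim
  · exact (sieve_kill hG 107 1 37 (by norm_num) (by rw [hn]; norm_num) (by norm_num) (by norm_num) (by norm_num) (by decide +kernel)).elim
  · exact (hand 3960 (by decide) hn).elim
  · exact (sieve_kill hG 233 1 17 (by norm_num) (by rw [hn]; norm_num) (by norm_num) (by norm_num) (by norm_num) (by decide +kernel)).elim
  · exact (sieve_kill hG 283 1 14 (by norm_num) (by rw [hn]; norm_num) (by norm_num) (by norm_num) (by norm_num) (by decide +kernel)).elim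
  · exact (sieve_kill hG 1321 1 3 (by norm_num) (by rw [hn]; norm_num) (by norm_num) (by norm_num) (by norm_num) (by decide +kernel)).elim
  · exact (sieve_kill hG 991 1 4 (by norm_num) (by rw [hn]; norm_num) (by norm_num) (by norm_num) (by norm_num) (by decide +kernel)).elim
  · exact (sieve_kill hG 61 1 65 (by norm_num) (by rw [hn]; norm_num) (by norm_num) (by norm_num) (by norm_num) (by decide +kernel)).elim
  · exact (sieve_kill hG 661 1 6 (by norm_num) (by rw [hn]; norm_num) (by norm_num) (by norm_num) (by norm_num) (by decide +kernel)).elim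
  · exact (not_prime_pow hG 3967 1 (by norm_num) (by rw [hn]; norm_num)).elim
  · exact (not_paqb hG 2 31 7 1 (by norm_num) (by norm_num) (by rw [hn]; norm_num)).elim
  · exact (sieve_kill hG 7 2 81 (by norm_num) (by rw [hn]; norm_num) (by norm_num) (by norm_num) (by norm_num) (by decide +kernel)).elim
  · exact (sieve_kill hG 397 1 10 (by norm_num) (by rw [hn]; norm_num) (by norm_num) (by norm_num) (by norm_num) (by decide +kernel)).elim
  · exact (sieve_kill hG 19 2 11 (by norm_num) (by rw [hn]; norm_num) (by norm_num) (by norm_num) (by norm_num) (by decide +kernel)).elim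
  · exact (sieve_kill hG 331 1 12 (by norm_num) (by rw [hn]; norm_num) (by norm_num) (by norm_num) (by norm_num) (by decide +kernel)).elim
  · exact (sieve_kill hG 137 1 29 (by norm_num) (by rw [hn]; norm_num) (by norm_num) (by norm_num) (by norm_num) (by decide +kernel)).elim
  · exact (sieve_kill hG 1987 1 2 (by norm_num) (by rw [hn]; norm_num) (by norm_num) (by norm_num) (by norm_num) (by decide +kernel)).elim
  · exact (sieve_kill hG 53 1 75 (by norm_num) (by rw [hn]; norm_num) (by norm_num) (by norm_num) (by norm_num) (by decide +kernel)).elim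
  · exact (sieve_kill hG 71 1 56 (by norm_num) (by rw [hn]; norm_num) (by norm_num) (by norm_num) (by norm_num) (by decide +kernel)).elim
  · exact (sieve_kill hG 97 1 41 (by norm_num) (by rw [hn]; norm_num) (by norm_num) (by norm_num) (by norm_num) (by decide +kernel)).elim
  · exact (sieve_kill hG 17 1 234 (by norm_num) (by rw [hn]; norm_num) (by norm_num) (by norm_num) (by norm_num) (by decide +kernel)).elim
  · exact (sieve_kill hG 173 1 23 (by norm_num) (by rw [hn]; norm_num) (by norm_num) (by norm_num) (by norm_num) (by decide +kernel)).elim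
  · exact (sieve_kill hG 199 1 20 (by norm_num) (by rw [hn]; norm_num) (by norm_num) (by norm_num) (by norm_num) (by decide +kernel)).elim
  · exact (sieve_kill hG 1327 1 3 (by norm_num) (by rw [hn]; norm_num) (by norm_num) (by norm_num) (by norm_num) (by decide +kernel)).elim
  · exact (sieve_kill hG 181 1 22 (by norm_num) (by rw [hn]; norm_num) (by norm_num) (by norm_num) (by norm_num) (by decide +kernel)).elim
  · exact (sieve_kill hG 569 1 7 (by norm_num) (by rw [hn]; norm_num) (by norm_num) (by norm_num) (by norm_num) (by decide +kernel)).elim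
  · exact (sieve_kill hG 83 1 48 (by norm_num) (by rw [hn]; norm_num) (by norm_num) (by norm_num) (by norm_num) (by decide +kernel)).elim
  · exact (sieve_kill hG 797 1 5 (by norm_num) (by rw [hn]; norm_num) (by norm_num) (by norm_num) (by norm_num) (by decide +kernel)).elim
  · exact (sieve_kill hG 1993 1 2 (by norm_num) (by rw [hn]; norm_num) (by norm_num) (by norm_num) (by norm_num) (by decide +kernel)).elim
  · exact (sieve_kill hG 443 1 9 (by norm_num) (by rw [hn]; norm_num) (by norm_num) (by norm_num) (by norm_num) (by decide +kernel)).elim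
  · exact (sieve_kill hG 997 1 4 (by norm_num) (by rw [hn]; norm_num) (by norm_num) (by norm_num) (by norm_num) (by decide +kernel)).elim
  · exact (not_prime_pow hG 3989 1 (by norm_num) (by rw [hn]; norm_num)).elim
  · exact (sieve_kill hG 19 1 210 (by norm_num) (by rw [hn]; norm_num) (by norm_num) (by norm_num) (by norm_num) (by decide +kernel)).elim
  · exact (sieve_kill hG 307 1 13 (by norm_num) (by rw [hn]; norm_num) (by norm_num) (by norm_num) (by norm_num) (by decide +kernel)).elim
  · exact (sieve_kill hG 499 1 8 (by norm_num) (by rw [hn]; norm_num) (by norm_num) (by norm_num) (by norm_num) (by decide +kernel)).elim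
  · exact (sieve_kill hG 11 3 3 (by norm_num) (by rw [hn]; norm_num) (by norm_num) (by norm_num) (by norm_num) (by decide +kernel)).elim
  · exact (sieve_kill hG 1997 1 2 (by norm_num) (by rw [hn]; norm_num) (by norm_num) (by norm_num) (by norm_num) (by decide +kernel)).elim
  · exact (sieve_kill hG 47 1 85 (by norm_num) (by rw [hn]; norm_num) (by norm_num) (by norm_num) (by norm_num) (by decide +kernel)).elim
  · exact (sieve_kill hG 37 1 108 (by norm_num) (by rw [hn]; norm_num) (by norm_num) (by norm_num) (by norm_num) (by decide +kernel)).elim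
  · exact (sieve_kill hG 571 1 7 (by norm_num) (by rw [hn]; norm_num) (by norm_num) (by norm_num) (by norm_num) (by decide +kernel)).elim
  · exact (sieve_kill hG 1999 1 2 (by norm_num) (by rw [hn]; norm_num) (by norm_num) (by norm_num) (by norm_num) (by decide +kernel)).elim
  · exact (sieve_kill hG 43 1 93 (by norm_num) (by rw [hn]; norm_num) (by norm_num) (by norm_num) (by norm_num) (by decide +kernel)).elim
  · exact (not_paqb hG 2 5 5 3 (by norm_num) (by norm_num) (by rw [hn]; norm_num)).elim
  · exact (not_prime_pow hG 4001 1 (by norm_num) (by rw [hn]; norm_num)).elim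
  · exact (sieve_kill hG 29 1 138 (by norm_num) (by rw [hn]; norm_num) (by norm_num) (by norm_num) (by norm_num) (by decide +kernel)).elim
  · exact (not_prime_pow hG 4003 1 (by norm_num) (by rw [hn]; norm_num)).elim
  · exact (sieve_kill hG 11 1 364 (by norm_num) (by rw [hn]; norm_num) (by norm_num) (by norm_num) (by norm_num) (by decide +kernel)).elim
  · exact (sieve_kill hG 89 1 45 (by norm_num) (by rw [hn]; norm_num) (by norm_num) (by norm_num) (by norm_num) (by decide +kernel)).elim
  · exact (sieve_kill hG 2003 1 2 (by norm_num) (by rw [hn]; norm_num) (by norm_num) (by norm_num) (by norm_num) (by decide +kernel)).elim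
  · exact (not_prime_pow hG 4007 1 (by norm_num) (by rw [hn]; norm_num)).elim
  · exact (sieve_kill hG 167 1 24 (by norm_num) (by rw [hn]; norm_num) (by norm_num) (by norm_num) (by norm_num) (by decide +kernel)).elim
  · exact (sieve_kill hG 211 1 19 (by norm_num) (by rw [hn]; norm_num) (by norm_num) (by norm_num) (by norm_num) (by decide +kernel)).elim
  · exact (sieve_kill hG 401 1 10 (by norm_num) (by rw [hn]; norm_num) (by norm_num) (by norm_num) (by norm_num) (by decide +kernel)).elim
  · exact (sieve_kill hG 191 1 21 (by norm_num) (by rw [hn]; norm_num) (by norm_num) (by norm_num) (by norm_num) (by decide +kernel)).elim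
  · exact (sieve_kill hG 59 1 68 (by norm_num) (by rw [hn]; norm_num) (by norm_num) (by norm_num) (by norm_num) (by decide +kernel)).elim
  · exact (not_prime_pow hG 4013 1 (by norm_num) (by rw [hn]; norm_num)).elim
  · exact (sieve_kill hG 223 1 18 (by norm_num) (by rw [hn]; norm_num) (by norm_num) (by norm_num) (by norm_num) (by decide +kernel)).elim
  · exact (sieve_kill hG 73 1 55 (by norm_num) (by rw [hn]; norm_num) (by norm_num) (by norm_num) (by norm_num) (by decide +kernel)).elim
  · exact (sieve_kill hG 251 1 16 (by norm_num) (by rw [hn]; norm_num) (by norm_num) (by norm_num) (by norm_num) (by decide +kernel)).elim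
  · exact (sieve_kill hG 103 1 39 (by norm_num) (by rw [hn]; norm_num) (by norm_num) (by norm_num) (by norm_num) (by decide +kernel)).elim
  · exact (sieve_kill hG 41 1 98 (by norm_num) (by rw [hn]; norm_num) (by norm_num) (by norm_num) (by norm_num) (by decide +kernel)).elim
  · exact (not_prime_pow hG 4019 1 (by norm_num) (by rw [hn]; norm_num)).elim
  · exact (sieve_kill hG 67 1 60 (by norm_num) (by rw [hn]; norm_num) (by norm_num) (by norm_num) (by norm_num) (by decide +kernel)).elim
  · exact (not_prime_pow hG 4021 1 (by norm_num) (by rw [hn]; norm_num)).elim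
  · exact (sieve_kill hG 2011 1 2 (by norm_num) (by rw [hn]; norm_num) (by norm_num) (by norm_num) (by norm_num) (by decide +kernel)).elim
  · exact (sieve_kill hG 149 1 27 (by norm_num) (by rw [hn]; norm_num) (by norm_num) (by norm_num) (by norm_num) (by decide +kernel)).elim
  · exact (sieve_kill hG 503 1 8 (by norm_num) (by rw [hn]; norm_num) (by norm_num) (by norm_num) (by norm_num) (by decide +kernel)).elim
  · exact (sieve_kill hG 23 1 175 (by norm_num) (by rw [hn]; norm_num) (by norm_num) (by norm_num) (by norm_num) (by decide +kernel)).elim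
  · exact (sieve_kill hG 61 1 66 (by norm_num) (by rw [hn]; norm_num) (by norm_num) (by norm_num) (by norm_num) (by decide +kernel)).elim
  · exact (not_prime_pow hG 4027 1 (by norm_num) (by rw [hn]; norm_num)).elim
  · exact (sieve_kill hG 53 1 76 (by norm_num) (by rw [hn]; norm_num) (by norm_num) (by norm_num) (by norm_num) (by decide +kernel)).elim
  · exact (sieve_kill hG 79 1 51 (by norm_num) (by rw [hn]; norm_num) (by norm_num) (by norm_num) (by norm_num) (by decide +kernel)).elim
  · exact (sieve_kill hG 31 1 130 (by norm_num) (by rw [hn]; norm_num) (by norm_num) (by norm_num) (by norm_num) (by decide +kernel)).elim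
  · exact (sieve_kill hG 139 1 29 (by norm_num) (by rw [hn]; norm_num) (by norm_num) (by norm_num) (by norm_num) (by decide +kernel)).elim
  · exact (hand 4032 (by decide) hn).elim
  · exact (sieve_kill hG 109 1 37 (by norm_num) (by rw [hn]; norm_num) (by norm_num) (by norm_num) (by norm_num) (by decide +kernel)).elim
  · exact (sieve_kill hG 2017 1 2 (by norm_num) (by rw [hn]; norm_num) (by norm_num) (by norm_num) (by norm_num) (by decide +kernel)).elim
  · exact (sieve_kill hG 269 1 15 (by norm_num) (by rw [hn]; norm_num) (by norm_num) (by norm_num) (by norm_num) (by decide +kernel)).elim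
  · exact (sieve_kill hG 1009 1 4 (by norm_num) (by rw [hn]; norm_num) (by norm_num) (by norm_num) (by norm_num) (by decide +kernel)).elim
  · exact (sieve_kill hG 367 1 11 (by norm_num) (by rw [hn]; norm_num) (by norm_num) (by norm_num) (by norm_num) (by decide +kernel)).elim
  · exact (sieve_kill hG 673 1 6 (by norm_num) (by rw [hn]; norm_num) (by norm_num) (by norm_num) (by norm_num) (by decide +kernel)).elim
  · exact (sieve_kill hG 577 1 7 (by norm_num) (by rw [hn]; norm_num) (by norm_num) (by norm_num) (by norm_num) (by decide +kernel)).elim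
  · exact (sieve_kill hG 101 1 40 (by norm_num) (by rw [hn]; norm_num) (by norm_num) (by norm_num) (by norm_num) (by decide +kernel)).elim

end Cfsg.Agent.Helper39.Ord983
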