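import Cfsg.Agent.Helper39.Ord983.Inter

/-!
# Orders 4725, 6000, 4500, 5292: Sylow-intersection kills (helper39, for S0983)
-/

set_option autoImplicit false
set_option maxRecDepth 100000

namespace Cfsg.Agent.Helper39.Ord983

open Subgroup Cfsg.Agent.Helper9 Cfsg.Agent.Helper17 Cfsg.Agent.Helper39.SimpOrd

variable {G : Type*} [Group G] [Finite G] [IsSimpleGroup G]

/-- One-shot: all admissible `n_p` are `≢ 1 mod p²` and the intersection normalizer has no
admissible index. -/
theorem kill_sylow_inter' (p k m : ℕ) (hp : p.Prime)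
    (hcard : Nat.card G = p ^ k * m) (hm : ¬ p ∣ m) (hk : 2 ≤ k) (hm1 : m ≠ 1)
    (hL : (npList p k m).all (fun x => x % p ^ 2 != 1) = true)
    (hdead : interDead p k m = true) : False := by
  have hnprime : ¬ (Nat.card G).Prime := by
    rw [hcard]
    apply Nat.not_prime_mul
    · have : 1 < p ^ k := Nat.one_lt_pow (by omega) hp.one_lt
      omega
    · exact hm1
  have hG : ¬ IsMulCommutative G := not_comm_of_simple_of_not_prime hnprime
  have hmem := card_sylow_mem_npList hG p k m hp hcard hm (by omega) hm1
  rw [List.all_eq_true] at hL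
  have h1 := hL _ hmem
  apply kill_sylow_inter hG p k m hp hcard hm hk _ hdead
  intro hmod
  have hlt : 1 < p ^ 2 := Nat.one_lt_pow (by norm_num) hp.one_lt
  have h2 : Nat.card (Sylow p G) % p ^ 2 = 1 := by
    have h3 : Nat.card (Sylow p G) % p ^ 2 = 1 % p ^ 2 := hmod
    rwa [Nat.mod_eq_of_lt hlt] at h3
  rw [h2] at h1
  simp at h1

theorem no_simple_4725 (h : Nat.card G = 4725) : False :=
  kill_sylow_inter' 5 2 189 (by norm_num) (by rw [h]; norm_num) (by norm_num) (by norm_num) (by norm_num)
    (by decide +kernel) (by decide +kernel)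

theorem no_simple_6000 (h : Nat.card G = 6000) : False :=
  kill_sylow_inter' 5 3 48 (by norm_num) (by rw [h]; norm_num) (by norm_num) (by norm_num) (by norm_num)
    (by decide +kernel) (by decide +kernel)

theorem no_simple_4500 (h : Nat.card G = 4500) : False :=
  kill_sylow_inter' 5 3 36 (by norm_num) (by rw [h]; norm_num) (by norm_num) (by norm_num) (by norm_num)
    (by decide +kernel) (by decide +kernel)

theorem no_simple_5292 (h : Nat.card G = 5292) : False :=
  kill_sylow_inter' 7 2 108 (by norm_num) (by rw [h]; norm_num) (by norm_num) (by norm_num) (by norm_num)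
    (by decide +kernel) (by decide +kernel)

end Cfsg.Agent.Helper39.Ord983
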