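import Cfsg.Agent.Helper39.Ord983.Kit3

/-!
# Orders 6160, 3696, 3780, 4620, 4760, 4212 (helper39, for S0983)
-/

set_option autoImplicit false
set_option maxRecDepth 100000

namespace Cfsg.Agent.Helper39.Ord983

open Subgroup Cfsg.Agent.Helper9 Cfsg.Agent.Helper17 Cfsg.Agent.Helper39.SimpOrd

variable {G : Type*} [Group G] [Finite G] [IsSimpleGroup G]

theorem not_comm_of_card {p m : ℕ} (hp : p.Prime) (hcard : Nat.card G = p ^ 1 * m)
    (hm1 : m ≠ 1) : ¬ IsMulCommutative G := by
  apply not_comm_of_simple_of_not_prime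
  rw [hcard, pow_one]
  exact Nat.not_prime_mul hp.one_lt.ne' hm1

/-- No pair `(n_p, |C(P)|)` survives. -/
theorem kill_surv_nil (p m : ℕ) (hp : p.Prime) (hcard : Nat.card G = p ^ 1 * m) (hm : ¬ p ∣ m)
    (hm1 : m ≠ 1) (hL : survList p m = []) : False := by
  have hG := not_comm_of_card hp hcard hm1
  haveI : Fact p.Prime := ⟨hp⟩
  obtain ⟨P⟩ : Nonempty (Sylow p G) := inferInstance
  have := sylow_prime_surv hG p m hp hcard hm hm1 P
  rw [hL] at this
  exact absurd this (List.not_mem_nil)

/-- Swap kill: `q` divides every surviving `|C(P)|` but `p` divides no surviving `|C(Q)|`. -/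
theorem kill_swap (p q mp mq : ℕ) (hp : p.Prime) (hq : q.Prime)
    (hcardp : Nat.card G = p ^ 1 * mp) (hcardq : Nat.card G = q ^ 1 * mq)
    (hmp : ¬ p ∣ mp) (hmq : ¬ q ∣ mq) (hmp1 : mp ≠ 1) (hmq1 : mq ≠ 1)
    (h1 : (survList p mp).all (fun x => x.2 % q == 0) = true)
    (h2 : (survList q mq).all (fun x => x.2 % p != 0) = true) : False := by
  have hG := not_comm_of_card hp hcardp hmp1
  haveI : Fact p.Prime := ⟨hp⟩
  haveI : Fact q.Prime := ⟨hq⟩
  obtain ⟨P⟩ : Nonempty (Sylow p G) := inferInstance
  obtain ⟨Q⟩ : Nonempty (Sylow q G) := inferInstance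
  have hP := sylow_prime_surv hG p mp hp hcardp hmp hmp1 P
  have hQ := sylow_prime_surv hG q mq hq hcardq hmq hmq1 Q
  rw [List.all_eq_true] at h1 h2
  have h1' := h1 _ hP
  have h2' := h2 _ hQ
  simp only [beq_iff_eq, bne_iff_ne, ne_eq] at h1' h2'
  have hcP : ∀ P : Sylow p G, Nat.card (P : Subgroup G) = p := fun P => by
    simpa using card_sylow_subgroup_of_card_eq hcardp hmp P
  have hcQ : ∀ Q : Sylow q G, Nat.card (Q : Subgroup G) = q := fun Q => by
    simpa using card_sylow_subgroup_of_card_eq hcardq hmq Q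
  have := dvd_card_centralizer_swap hcP hcQ P Q (Nat.dvd_of_mod_eq_zero h1')
  exact h2' (Nat.mod_eq_zero_of_dvd this)

theorem no_simple_6160 (h : Nat.card G = 6160) : False :=
  kill_surv_nil 7 880 (by norm_num) (by rw [h]; norm_num) (by norm_num) (by norm_num)
    (by decide +kernel)

theorem no_simple_3696 (h : Nat.card G = 3696) : False :=
  kill_swap 11 3 336 1232 (by norm_num) (by norm_num) (by rw [h]; norm_num) (by rw [h]; norm_num)
    (by norm_num) (by norm_num) (by norm_num) (by norm_num) (by decide +kernel)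
    (by decide +kernel)

theorem no_simple_3780 (h : Nat.card G = 3780) : False :=
  kill_swap 7 5 540 756 (by norm_num) (by norm_num) (by rw [h]; norm_num) (by rw [h]; norm_num)
    (by norm_num) (by norm_num) (by norm_num) (by norm_num) (by decide +kernel)
    (by decide +kernel)

/-- From the surviving list: a Bool property of all surviving pairs holds for the actual pair. -/
theorem surv_all (p m : ℕ) (hp : p.Prime) (hcard : Nat.card G = p ^ 1 * m) (hm : ¬ p ∣ m)
    (hm1 : m ≠ 1) (f : ℕ × ℕ → Bool) (hf : (survList p m).all f = true) :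
    haveI : Fact p.Prime := ⟨hp⟩
    ∀ P : Sylow p G,
      f (Nat.card (Sylow p G), Nat.card (centralizer ((P : Subgroup G) : Set G))) = true := by
  haveI : Fact p.Prime := ⟨hp⟩
  intro P
  have hG := not_comm_of_card hp hcard hm1
  rw [List.all_eq_true] at hf
  exact hf _ (sylow_prime_surv hG p m hp hcard hm hm1 P)

theorem no_simple_4620 (h : Nat.card G = 4620) : False := by
  haveI : Fact (Nat.Prime 5) := ⟨by norm_num⟩
  haveI : Fact (Nat.Prime 7) := ⟨by norm_num⟩
  haveI : Fact (Nat.Prime 11) := ⟨by norm_num⟩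
  have hc5 : Nat.card G = 5 ^ 1 * 924 := by rw [h]; norm_num
  have hc7 : Nat.card G = 7 ^ 1 * 660 := by rw [h]; norm_num
  have hc11 : Nat.card G = 11 ^ 1 * 420 := by rw [h]; norm_num
  obtain ⟨P5⟩ : Nonempty (Sylow 5 G) := inferInstance
  obtain ⟨P7⟩ : Nonempty (Sylow 7 G) := inferInstance
  obtain ⟨P11⟩ : Nonempty (Sylow 11 G) := inferInstance
  have hcP5 : ∀ P : Sylow 5 G, Nat.card (P : Subgroup G) = 5 := fun P => by
    simpa using card_sylow_subgroup_of_card_eq hc5 (by norm_num) P
  have hcP7 : ∀ P : Sylow 7 G, Nat.card (P : Subgroup G) = 7 := fun P => by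
    simpa using card_sylow_subgroup_of_card_eq hc7 (by norm_num) P
  have hcP11 : ∀ P : Sylow 11 G, Nat.card (P : Subgroup G) = 11 := fun P => by
    simpa using card_sylow_subgroup_of_card_eq hc11 (by norm_num) P
  have h11 := surv_all 11 420 (by norm_num) hc11 (by norm_num) (by norm_num)
    (fun x => x.1 == 210) (by decide +kernel) P11
  have h7 := surv_all 7 660 (by norm_num) hc7 (by norm_num) (by norm_num)
    (fun x => (x.1 == 330) && (x.2 % 5 != 0)) (by decide +kernel) P7
  have h5 := surv_all 5 924 (by norm_num) hc5 (by norm_num) (by norm_num)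
    (fun x => (x.1 == 231) || (x.2 % 7 == 0)) (by decide +kernel) P5
  simp only [beq_iff_eq, bne_iff_ne, ne_eq, Bool.and_eq_true, Bool.or_eq_true] at h11 h7 h5
  have hn5 : Nat.card (Sylow 5 G) = 231 := by
    rcases h5 with h5 | h5
    · exact h5
    · exfalso
      have := dvd_card_centralizer_swap hcP5 hcP7 P5 P7 (Nat.dvd_of_mod_eq_zero h5)
      exact h7.2 (Nat.mod_eq_zero_of_dvd this)
  have hcount := sum_card_orderOf_le (G := G) {5, 7, 11}
  rw [Finset.sum_insert (by decide), Finset.sum_insert (by decide), Finset.sum_singleton,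
    card_orderOf_eq_prime hcP5, card_orderOf_eq_prime hcP7, card_orderOf_eq_prime hcP11,
    hn5, h7.1, h11, h] at hcount
  omega

theorem no_simple_4760 (h : Nat.card G = 4760) : False := by
  haveI : Fact (Nat.Prime 17) := ⟨by norm_num⟩
  have hc17 : Nat.card G = 17 ^ 1 * 280 := by rw [h]; norm_num
  have hG := not_comm_of_card (G := G) (by norm_num) hc17 (by norm_num)
  obtain ⟨P⟩ : Nonempty (Sylow 17 G) := inferInstance
  have hcP : Nat.card (P : Subgroup G) = 17 := by
    simpa using card_sylow_subgroup_of_card_eq hc17 (by norm_num) P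
  have h17 := surv_all 17 280 (by norm_num) hc17 (by norm_num) (by norm_num)
    (fun x => (x.1 == 35) && (x.2 == 17)) (by decide +kernel) P
  simp only [beq_iff_eq, Bool.and_eq_true] at h17
  have hN : Nat.card (normalizer ((P : Subgroup G) : Set G)) = 136 :=
    card_normalizer_of_card_sylow P h h17.1 (by norm_num) (by norm_num)
  have hrel := card_centralizer_mul_relIndex (P : Subgroup G)
  rw [hN, h17.2] at hrel
  have hrel8 : (centralizer ((P : Subgroup G) : Set G)).relIndex
      (normalizer ((P : Subgroup G) : Set G)) = 8 := by omega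
  obtain ⟨g, hg⟩ := exists_orderOf_of_relIndex P hcP
  rw [hrel8] at hg
  exact no_elt_two_pow hG 3 595 (by rw [h]; norm_num) (by norm_num) (by norm_num) g
    (by simpa using hg)

theorem no_simple_4212 (h : Nat.card G = 4212) : False := by
  haveI : Fact (Nat.Prime 13) := ⟨by norm_num⟩
  haveI : Fact (Nat.Prime 3) := ⟨by norm_num⟩
  have hc13 : Nat.card G = 13 ^ 1 * 324 := by rw [h]; norm_num
  have hc3 : Nat.card G = 3 ^ 4 * 52 := by rw [h]; norm_num
  have hG := not_comm_of_card (G := G) (by norm_num) hc13 (by norm_num)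
  obtain ⟨P⟩ : Nonempty (Sylow 13 G) := inferInstance
  have h13 := surv_all 13 324 (by norm_num) hc13 (by norm_num) (by norm_num)
    (fun x => (x.1 == 27)) (by decide +kernel) P
  simp only [beq_iff_eq] at h13
  have hN : Nat.card (normalizer ((P : Subgroup G) : Set G)) = 156 :=
    card_normalizer_of_card_sylow P h h13 (by norm_num) (by norm_num)
  have hmem := card_sylow_mem_npList hG 3 4 52 (by norm_num) hc3 (by norm_num) (by norm_num)
    (by norm_num)
  have hL : (npList 3 4 52).all (fun x => x % 3 ^ 2 != 1) = true := by decide +kernel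
  rw [List.all_eq_true] at hL
  have h1 := hL _ hmem
  have hnmod : ¬ Nat.card (Sylow 3 G) ≡ 1 [MOD 3 ^ 2] := by
    intro hmod
    have h3 : Nat.card (Sylow 3 G) % 3 ^ 2 = 1 % 3 ^ 2 := hmod
    rw [h3] at h1
    simp at h1
  obtain ⟨H, hH, hidx⟩ := index_mem_interList hG 3 4 52 (by norm_num) hc3 (by norm_num)
    (by norm_num) hnmod
  have hI : interList 3 4 52 = [13] := by decide +kernel
  rw [hI, List.mem_singleton] at hidx
  have := two_mul_card_normalizer_dvd_of_index' hG H hH 13 (by rw [hidx]) (by rw [hidx]; norm_num)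
    (by rw [h]; norm_num) P
  rw [hN, hidx] at this
  norm_num at this

end Cfsg.Agent.Helper39.Ord983
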