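import Cfsg.Agent.Helper39.SimpOrd.Kit
import Cfsg.Agent.Helper39.SimpOrd.KitC
import Cfsg.Agent.Helper39.SimpOrd.HandF
import Cfsg.Agent.Helper17.LemmaR
import Cfsg.Agent.Helper17.LemmaN2
import Cfsg.Agent.Helper17.Parity
import Cfsg.Agent.Helper17.PSqQR

/-!
# A second kit for "no simple group of order n" arguments (helper39, for S0983)

* `exists_index_of_sylow_inter`: refined Sylow-intersection lemma (`n_p ≢ 1 mod p²`).
* `fix_congr`: fixed points on `Syl_p` of an element of prime order `q` centralizing a Sylow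
  `p`-subgroup: `F ≡ 1 mod p`, `F ≡ n_p mod q`, `F < n_p`, and `4 ∣ n_p - F` if `q = 2`.
* `not_dvd_card_centralizer`: numeric form.
-/

set_option autoImplicit false

namespace Cfsg.Agent.Helper39.Ord983

open Subgroup Cfsg.Agent.Helper9 Cfsg.Agent.Helper17 Cfsg.Agent.Helper39.SimpOrd

variable {G : Type*} [Group G] [Finite G]

/-- Fixed points of an element `c` of prime order `q` centralizing the Sylow `p`-subgroup `P`,
acting on `Syl_p(G)` (`G` simple, `n_p ≠ 1`). -/
theorem fix_congr [IsSimpleGroup G] (hG2 : 2 < Nat.card G) {p q : ℕ} [hp : Fact p.Prime]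
    [hq : Fact q.Prime] (P : Sylow p G) (c : G)
    (hc : c ∈ centralizer ((P : Subgroup G) : Set G)) (hcq : orderOf c = q)
    (hn1 : Nat.card (Sylow p G) ≠ 1) :
    ∃ F : ℕ, F % p = 1 ∧ F < Nat.card (Sylow p G) ∧ (Nat.card (Sylow p G) - F) % q = 0 ∧
      (q = 2 → (Nat.card (Sylow p G) - F) % 4 = 0) := by
  classical
  letI : Fintype (Sylow p G) := Fintype.ofFinite _
  have h1 := card_fixSyl_modEq_one P c hc
  have h2 := card_fixSyl_modEq_card (p := p) c hcq
  have h3 := card_fixSyl_le (p := p) c
  have hc1 : c ≠ 1 := by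
    intro h
    rw [h, orderOf_one] at hcq
    exact hq.out.one_lt.ne' hcq.symm
  have hlt : (fixSyl p c).card < Nat.card (Sylow p G) := by
    rcases Nat.lt_or_ge (fixSyl p c).card (Nat.card (Sylow p G)) with h | h
    · exact h
    · exact absurd (eq_one_of_card_fixSyl hn1 c (le_antisymm h3 h)) hc1
  refine ⟨(fixSyl p c).card, ?_, hlt, ?_, ?_⟩
  · have : (fixSyl p c).card % p = 1 % p := h1
    rwa [Nat.mod_eq_of_lt hp.out.one_lt] at this
  · have := (Nat.modEq_iff_dvd' hlt.le).mp h2.symm
    exact Nat.mod_eq_zero_of_dvd this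
  · intro hq2
    subst hq2
    -- the sign argument
    set σ : Equiv.Perm (Sylow p G) := MulAction.toPermHom G (Sylow p G) c with hσ
    have hσ2 : σ ^ 2 = 1 := by
      rw [hσ, ← map_pow, ← hcq, pow_orderOf_eq_one, map_one]
    have hsupp : σ.support = Finset.univ \ fixSyl p c := by
      ext R
      rw [Equiv.Perm.mem_support, Finset.mem_sdiff, mem_fixSyl]
      simp [hσ]
    have hsuppcard : σ.support.card + (fixSyl p c).card = Nat.card (Sylow p G) := by
      rw [hsupp, Finset.card_sdiff_of_subset (Finset.subset_univ _), Finset.card_univ,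
        Nat.card_eq_fintype_card]
      have : (fixSyl p c).card ≤ Fintype.card (Sylow p G) := Finset.card_le_univ _
      omega
    have hσ1 : σ ≠ 1 := by
      intro h
      rw [h, Equiv.Perm.support_one, Finset.card_empty] at hsuppcard
      omega
    have hσord : orderOf σ = 2 := orderOf_eq_prime hσ2 hσ1
    obtain ⟨m', hm'⟩ := Equiv.Perm.two_dvd_card_support hσ2
    have hsign := sign_of_involution' σ hσord m' hm'
    have hone := sign_toPerm_eq_one' hG2 (Ω := Sylow p G) c
    rw [← hσ, hsign] at hone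
    have hev : Even m' := by
      by_contra hodd
      rw [Nat.not_even_iff_odd] at hodd
      rw [hodd.neg_one_pow] at hone
      exact absurd hone (by decide)
    obtain ⟨m, hm⟩ := hev
    omega

/-- The check that no fixed-point count is possible. -/
def centDead (p q np : ℕ) : Bool :=
  (List.range np).all fun F =>
    !((F % p == 1) && ((np - F) % q == 0) && ((q != 2) || ((np - F) % 4 == 0)))

/-- If no fixed-point count is possible, `q` does not divide `|C(P)|`. -/
theorem not_dvd_card_centralizer [IsSimpleGroup G] (hG2 : 2 < Nat.card G) {p q : ℕ}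
    [hp : Fact p.Prime] [hq : Fact q.Prime] (P : Sylow p G) (np : ℕ)
    (hnp : Nat.card (Sylow p G) = np) (hnp1 : np ≠ 1) (hdead : centDead p q np = true) :
    ¬ q ∣ Nat.card (centralizer ((P : Subgroup G) : Set G)) := by
  intro hdvd
  obtain ⟨c', hc'⟩ := exists_prime_orderOf_dvd_card'
    (G := ↥(centralizer ((P : Subgroup G) : Set G))) q hdvd
  have hcq : orderOf (c' : G) = q := by rw [Subgroup.orderOf_coe, hc']
  obtain ⟨F, hF1, hF2, hF3, hF4⟩ := fix_congr hG2 P (c' : G) c'.2 hcq (by rw [hnp]; exact hnp1)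
  rw [hnp] at hF2 hF3 hF4
  unfold centDead at hdead
  rw [List.all_eq_true] at hdead
  have := hdead F (List.mem_range.mpr hF2)
  simp only [Bool.not_eq_true', Bool.and_eq_false_iff, Bool.or_eq_false_iff, beq_eq_false_iff_ne,
    ne_eq, bne_eq_false_iff_eq] at this
  rcases this with (h | h) | h
  · exact h hF1
  · exact h hF3
  · exact h.2 (hF4 h.1)

end Cfsg.Agent.Helper39.Ord983
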